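import Groth.Agent.FpqcQCoh.Family
import Groth.Agent.ProjBundleLib.Exist
import Groth.Agent.QCohLib.Exact
import Groth.Prelude.Def_Desc

/-!
# Morphisms of quasi-coherent modules satisfy fpqc descent
-/

set_option autoImplicit false
set_option backward.isDefEq.respectTransparency false
set_option backward.defeqAttrib.useBackward true
set_option linter.style.haveILetI false

universe u

open CategoryTheory CategoryTheory.Limits AlgebraicGeometry TopologicalSpace Opposite
open Groth.Agent.PullbackMod Groth.Agent.CohBase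

namespace Groth.Agent.FpqcQCoh

variable {S : Scheme.{u}} {ι : Type u} {X : ι → Scheme.{u}} {f : ∀ i, X i ⟶ S}

theorem cmp_mapComp' {T Z : Scheme.{u}} {g : Z ⟶ S} (t : T ⟶ Z) {h : T ⟶ S} (e : t ≫ g = h)
    (M : S.Modules) (p : g.op.toLoc ≫ t.op.toLoc = h.op.toLoc) :
    (Desc.modPF.{u}.mapComp' g.op.toLoc t.op.toLoc h.op.toLoc p).inv.toNatTrans.app M =
      (cmpIso M t e).hom := by
  subst e
  refine (congrArg (fun (i : Desc.modPF.{u}.map (g.op.toLoc ≫ t.op.toLoc) ≅ _) => i.inv.toNatTrans.app M)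
    (Pseudofunctor.mapComp'_eq_mapComp Desc.modPF.{u} g.op.toLoc t.op.toLoc)).trans ?_
  simp [Desc.modPF, cmpIso, Scheme.Modules.pullbackCongr, Scheme.Modules.pseudofunctor]

theorem cmp_mapComp'_hom {T Z : Scheme.{u}} {g : Z ⟶ S} (t : T ⟶ Z) {h : T ⟶ S} (e : t ≫ g = h)
    (M : S.Modules) (p : g.op.toLoc ≫ t.op.toLoc = h.op.toLoc) :
    (Desc.modPF.{u}.mapComp' g.op.toLoc t.op.toLoc h.op.toLoc p).hom.toNatTrans.app M =
      (cmpIso M t e).inv := by
  rw [← cancel_mono (cmpIso M t e).hom, Iso.inv_hom_id, ← cmp_mapComp' t e M p]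
  exact congrArg (fun τ => τ.toNatTrans.app M) (Desc.modPF.{u}.mapComp' g.op.toLoc t.op.toLoc h.op.toLoc p).hom_inv_id

variable {M N : S.Modules}

/-- The morphism between inverse images to an overlap. -/
noncomputable def overlap (φ : ∀ i, (Scheme.Modules.pullback (f i)).obj M ⟶ (Scheme.Modules.pullback (f i)).obj N)
    {i : ι} {T : Scheme.{u}} (t : T ⟶ X i) {h : T ⟶ S} (e : t ≫ f i = h) :
    (Scheme.Modules.pullback h).obj M ⟶ (Scheme.Modules.pullback h).obj N :=
  (cmpIso M t e).inv ≫ (Scheme.Modules.pullback t).map (φ i) ≫ (cmpIso N t e).hom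

theorem vMap_overlap (φ : ∀ i, (Scheme.Modules.pullback (f i)).obj M ⟶ (Scheme.Modules.pullback (f i)).obj N)
    {i : ι} {T : Scheme.{u}} (t : T ⟶ X i) {h : T ⟶ S} (e : t ≫ f i = h) :
    φ i ≫ vMap N t e = vMap M t e ≫ (Scheme.Modules.pushforward t).map (overlap φ t e) := by
  rw [vMap, vMap, ← Adjunction.homEquiv_naturality_left, ← Adjunction.homEquiv_naturality_right]
  simp [overlap]

theorem plMap_hom (φ : ∀ i, (Scheme.Modules.pullback (f i)).obj M ⟶ (Scheme.Modules.pullback (f i)).obj N)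
    {i : ι} {T : Scheme.{u}} (t : T ⟶ X i) {h : T ⟶ S} (e : t ≫ f i = h)
    {U : (X i).Opens} {V : T.Opens} (hV : V ≤ t ⁻¹ᵁ U) (y : Γ((Scheme.Modules.pullback (f i)).obj M, U)) :
    plMap N t e hV ((φ i).app U y) = (overlap φ t e).app V (plMap M t e hV y) := by
  have hv := ConcreteCategory.congr_hom (congrArg (fun τ : (Scheme.Modules.pullback (f i)).obj M ⟶ _ => τ.app U)
    (vMap_overlap φ t e)) y
  show ((Scheme.Modules.pullback h).obj N).presheaf.map (homOfLE hV).op ((vMap N t e).app U ((φ i).app U y)) = _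
  refine (congrArg _ hv).trans ?_
  exact (QCohLib.app_res (overlap φ t e) hV _).symm

/-- The compatibility condition on a family of morphisms. -/
def IsCompatibleHom (φ : ∀ i, (Scheme.Modules.pullback (f i)).obj M ⟶ (Scheme.Modules.pullback (f i)).obj N) : Prop :=
  ∀ (T : Scheme.{u}) (h : T ⟶ S) (i j : ι) (a : T ⟶ X i) (b : T ⟶ X j) (ea : a ≫ f i = h) (eb : b ≫ f j = h),
    overlap φ a ea = overlap φ b eb

variable [Coh.IsQCoh N]

theorem compat_of_isCompatibleHom
    {φ : ∀ i, (Scheme.Modules.pullback (f i)).obj M ⟶ (Scheme.Modules.pullback (f i)).obj N}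
    (hφ : IsCompatibleHom φ) {W : S.Opens} (m : Γ(M, W)) {κ : Type u} (i : κ → ι) (U : ∀ k, (X (i k)).Opens)
    (hle : ∀ k, U k ≤ f (i k) ⁻¹ᵁ W) :
    Compat f N i U fun k => (φ (i k)).app (U k) (pullMap (f (i k)) M (hle k) m) := by
  intro k l T a b e V ha hb
  show plMap N a rfl ha _ = plMap N b e hb _
  have hVW : V ≤ (a ≫ f (i k)) ⁻¹ᵁ W := ha.trans (a.preimage_mono (hle k))
  rw [plMap_hom φ a rfl ha, plMap_hom φ b e hb, plMap_pullMap M a rfl (hle k) ha hVW,
    plMap_pullMap M b e (hle l) hb hVW, hφ T _ _ _ a b rfl e]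

/-- `n` corresponds to `m`. -/
def Corr (φ : ∀ i, (Scheme.Modules.pullback (f i)).obj M ⟶ (Scheme.Modules.pullback (f i)).obj N)
    {W : S.Opens} (m : Γ(M, W)) (n : Γ(N, W)) : Prop :=
  ∀ (i : ι) (U : (X i).Opens), IsAffineOpen U → ∀ hU : U ≤ f i ⁻¹ᵁ W,
    pullMap (f i) N hU n = (φ i).app U (pullMap (f i) M hU m)

theorem Corr.res {φ : ∀ i, (Scheme.Modules.pullback (f i)).obj M ⟶ (Scheme.Modules.pullback (f i)).obj N}
    {W W' : S.Opens} {m : Γ(M, W)} {n : Γ(N, W)} (hn : Corr φ m n) (h : W' ≤ W) :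
    Corr φ (M.presheaf.map (homOfLE h).op m) (N.presheaf.map (homOfLE h).op n) := by
  intro i U hU hle
  have hle' : U ≤ f i ⁻¹ᵁ W := hle.trans ((f i).preimage_mono h)
  have e1 := pullMap_res (f i) N hle' h (le_refl U) hle n
  have e2 := pullMap_res (f i) M hle' h (le_refl U) hle m
  rw [← e1, ← e2, restr_self, restr_self]
  exact hn i U hU hle'

theorem Corr.smul {φ : ∀ i, (Scheme.Modules.pullback (f i)).obj M ⟶ (Scheme.Modules.pullback (f i)).obj N}
    {W : S.Opens} {m : Γ(M, W)} {n : Γ(N, W)} (hn : Corr φ m n) (a : Γ(S, W)) :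
    Corr φ (a • m) (a • n) := by
  intro i U hU hle
  rw [pullMap_smul, pullMap_smul, Scheme.Modules.Hom.app_smul]
  exact congrArg (_ • ·) (hn i U hU hle)

variable (hf : Presieve.ofArrows X f ∈ Scheme.fpqcPrecoverage S)
include hf

theorem existsUnique_corr
    {φ : ∀ i, (Scheme.Modules.pullback (f i)).obj M ⟶ (Scheme.Modules.pullback (f i)).obj N}
    (hφ : IsCompatibleHom φ) {W : S.Opens} (hW : IsAffineOpen W) (m : Γ(M, W)) :
    ∃! n : Γ(N, W), Corr φ m n := by
  haveI : ∀ i, Flat (f i) := flat_of_fpqc f hf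
  obtain ⟨κ, hκ, i, U, hU, hle, hcov⟩ := exists_family_lift f hf hW
  obtain ⟨hinj, hglue⟩ := sections_family f N hW i U hU hle hcov
  obtain ⟨n, hn⟩ := hglue _ (compat_of_isCompatibleHom hφ m i U hle)
  refine ⟨n, fun j U' hU' hle' => ?_, fun n' hn' => hinj n' n fun k => by rw [hn' _ _ (hU k) (hle k), hn k]⟩
  let i' : Option κ → ι := fun k => k.elim j i
  let U'' : ∀ k : Option κ, (X (i' k)).Opens := fun k => match k with
    | none => U'
    | some k => U k
  have hle'' : ∀ k, U'' k ≤ f (i' k) ⁻¹ᵁ W := fun k => match k with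
    | none => hle'
    | some k => hle k
  obtain ⟨-, hglue'⟩ := sections_family f N hW i' U'' (fun k => match k with
    | none => hU'
    | some k => hU k) hle'' fun s hs => by
      obtain ⟨k, x, hx, he⟩ := hcov s hs
      exact ⟨some k, x, hx, he⟩
  obtain ⟨n', hn'⟩ := hglue' _ (compat_of_isCompatibleHom hφ m i' U'' hle'')
  obtain rfl : n' = n := hinj n' n fun k => (hn' (some k)).trans (hn k).symm
  exact hn' none

set_option maxHeartbeats 1000000 in
/-- Morphisms descend. -/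
theorem exists_hom {φ : ∀ i, (Scheme.Modules.pullback (f i)).obj M ⟶ (Scheme.Modules.pullback (f i)).obj N}
    (hφ : IsCompatibleHom φ) : ∃ ψ : M ⟶ N, ∀ i, (Scheme.Modules.pullback (f i)).map ψ = φ i := by
  choose n hn huniq using fun (W : S.AffineZariskiSite) (m : Γ(M, W.1)) => existsUnique_corr hf hφ W.2 m
  let F : ∀ W : S.AffineZariskiSite, Γ(M, W.1) →+ Γ(N, W.1) := fun W =>
    AddMonoidHom.mk' (n W) fun m m' => (huniq W (m + m') (n W m + n W m') fun i U hU hle => by
      rw [map_add, map_add, map_add, hn W m i U hU hle, hn W m' i U hU hle]).symm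
  obtain ⟨ψ, hψ⟩ := ProjBundleLib.exists_hom_of_affine F
    (fun W hW r m => huniq ⟨S.basicOpen r, hW.basicOpen r⟩ _ _ ((hn ⟨W, hW⟩ m).res (S.basicOpen_le r)))
    (fun W a m => (huniq W (a • m) _ ((hn W m).smul a)).symm)
  refine ⟨ψ, fun i => ((Scheme.Modules.pullbackPushforwardAdjunction (f i)).homEquiv _ _).injective ?_⟩
  rw [Adjunction.homEquiv_unit, Adjunction.homEquiv_unit]
  ext W m
  show ((Scheme.Modules.pullback (f i)).map ψ).app (f i ⁻¹ᵁ W)
      (((Scheme.Modules.pullbackPushforwardAdjunction (f i)).unit.app M).app W m) =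
    (φ i).app (f i ⁻¹ᵁ W) (((Scheme.Modules.pullbackPushforwardAdjunction (f i)).unit.app M).app W m)
  rw [show ((Scheme.Modules.pullbackPushforwardAdjunction (f i)).unit.app M).app W m =
    pullMap (f i) M (le_refl (f i ⁻¹ᵁ W)) m from (restr_self _ le_rfl _).symm]
  let J := {p : S.Opens × (X i).Opens // IsAffineOpen p.1 ∧ IsAffineOpen p.2 ∧ p.1 ≤ W ∧ p.2 ≤ f i ⁻¹ᵁ p.1}
  refine TopCat.Sheaf.eq_of_locally_eq'
    (⟨((Scheme.Modules.pullback (f i)).obj N).presheaf, ((Scheme.Modules.pullback (f i)).obj N).isSheaf⟩ :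
      TopCat.Sheaf Ab.{u} (X i).carrier)
    (fun p : J => p.1.2) (f i ⁻¹ᵁ W) (fun p => homOfLE (p.2.2.2.2.trans ((f i).preimage_mono p.2.2.2.1)))
    (fun x hx => ?_) _ _ fun p => ?_
  · obtain ⟨_, ⟨W', hW', rfl⟩, hxW', hW'W⟩ := S.isBasis_affineOpens.exists_subset_of_mem_open hx W.2
    obtain ⟨_, ⟨U, hU, rfl⟩, hxU, hUW⟩ :=
      (X i).isBasis_affineOpens.exists_subset_of_mem_open (a := x) (u := ↑(f i ⁻¹ᵁ W')) hxW' (f i ⁻¹ᵁ W').2
    exact Opens.mem_iSup.2 ⟨⟨(W', U), hW', hU, hW'W, hUW⟩, hxU⟩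
  · obtain ⟨⟨W', U⟩, hW', hU, hW'W, hUW⟩ := p
    show ((Scheme.Modules.pullback (f i)).obj N).presheaf.map (homOfLE _).op _ =
      ((Scheme.Modules.pullback (f i)).obj N).presheaf.map (homOfLE _).op _
    rw [← QCohLib.app_res, ← QCohLib.app_res, pullMap_res (f i) M le_rfl hW'W _ hUW, pullMap_natural,
      hψ W' hW']
    exact hn ⟨W', hW'⟩ _ i U hU hUW

/-- Morphisms into a quasi-coherent module are determined by their inverse images. -/
theorem hom_ext_family {φ ψ : M ⟶ N}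
    (h : ∀ i, (Scheme.Modules.pullback (f i)).map φ = (Scheme.Modules.pullback (f i)).map ψ) : φ = ψ := by
  haveI : ∀ i, Flat (f i) := flat_of_fpqc f hf
  ext W m
  let J := {V : S.Opens // IsAffineOpen V ∧ V ≤ W}
  refine TopCat.Sheaf.eq_of_locally_eq' (⟨N.presheaf, N.isSheaf⟩ : TopCat.Sheaf Ab.{u} S.carrier)
    (fun V : J => V.1) W (fun V => homOfLE V.2.2) (fun x hx => ?_) _ _ fun V => ?_
  · obtain ⟨_, ⟨W', hW', rfl⟩, hxW', hW'W⟩ := S.isBasis_affineOpens.exists_subset_of_mem_open hx W.2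
    exact Opens.mem_iSup.2 ⟨⟨W', hW', hW'W⟩, hxW'⟩
  · show N.presheaf.map (homOfLE V.2.2).op (φ.app W m) = N.presheaf.map (homOfLE V.2.2).op (ψ.app W m)
    rw [← QCohLib.app_res, ← QCohLib.app_res]
    obtain ⟨κ, _, i, U, hU, hle, hcov⟩ := exists_family_lift f hf V.2.1
    refine (sections_family f N V.2.1 i U hU hle hcov).1 _ _ fun k => ?_
    rw [← pullMap_natural, ← pullMap_natural, h]

/-- The data of a morphism between canonical descent data. -/
noncomputable def ddHom {M N : S.Modules}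
    (g : (Desc.modPF.{u}.toDescentData f).obj M ⟶ (Desc.modPF.{u}.toDescentData f).obj N) (i : ι) :
    (Scheme.Modules.pullback (f i)).obj M ⟶ (Scheme.Modules.pullback (f i)).obj N := g.hom i

set_option backward.isDefEq.respectTransparency.types false in
set_option maxHeartbeats 1600000 in
omit [Coh.IsQCoh N] hf in
theorem isCompatibleHom_ddHom
    (g : (Desc.modPF.{u}.toDescentData f).obj M ⟶ (Desc.modPF.{u}.toDescentData f).obj N) :
    IsCompatibleHom (ddHom g) := by
  intro T h i j a b ea eb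
  have pa : (f i).op.toLoc ≫ a.op.toLoc = h.op.toLoc := by rw [← ea]; rfl
  have pb : (f j).op.toLoc ≫ b.op.toLoc = h.op.toLoc := by rw [← eb]; rfl
  have hc : (Scheme.Modules.pullback a).map (ddHom g i) ≫
      ((Desc.modPF.{u}.mapComp' (f i).op.toLoc a.op.toLoc h.op.toLoc pa).inv.toNatTrans.app N ≫
        (Desc.modPF.{u}.mapComp' (f j).op.toLoc b.op.toLoc h.op.toLoc pb).hom.toNatTrans.app N) =
    ((Desc.modPF.{u}.mapComp' (f i).op.toLoc a.op.toLoc h.op.toLoc pa).inv.toNatTrans.app M ≫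
        (Desc.modPF.{u}.mapComp' (f j).op.toLoc b.op.toLoc h.op.toLoc pb).hom.toNatTrans.app M) ≫
      (Scheme.Modules.pullback b).map (ddHom g j) := g.comm h a b ea eb
  have h1 := cmp_mapComp' a ea N pa
  have h2 := cmp_mapComp'_hom b eb N pb
  have h3 := cmp_mapComp' a ea M pa
  have h4 := cmp_mapComp'_hom b eb M pb
  replace hc : (Scheme.Modules.pullback a).map (ddHom g i) ≫ ((cmpIso N a ea).hom ≫ (cmpIso N b eb).inv) =
      ((cmpIso M a ea).hom ≫ (cmpIso M b eb).inv) ≫ (Scheme.Modules.pullback b).map (ddHom g j) := by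
    simpa only [h1, h2, h3, h4] using hc
  unfold overlap
  rw [Iso.inv_comp_eq, ← cancel_mono (cmpIso N b eb).inv, Category.assoc, hc]
  simp

end Groth.Agent.FpqcQCoh
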