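import Groth.Agent.FpqcQCoh.Affine
import Groth.Agent.PullbackMod.Descent

/-!
# A module with quasi-coherent faithfully flat inverse image is quasi-coherent
-/

set_option autoImplicit false
set_option backward.isDefEq.respectTransparency false
set_option linter.style.haveILetI false

universe u

open CategoryTheory CategoryTheory.Limits AlgebraicGeometry TopologicalSpace Opposite
open Groth.Agent.PullbackMod

namespace Groth.Agent.FpqcQCoh

variable {X Y : Scheme.{u}} (f : X ⟶ Y) (M : Y.Modules)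

theorem isIso_fromTildeΓ_restrict_of_pullback [Flat f]
    [Coh.IsQCoh ((Scheme.Modules.pullback f).obj M)] {W : Y.Opens} (hW : IsAffineOpen W)
    (hl : HasAffineLift f W) : IsIso (M.restrict hW.fromSpec).fromTildeΓ := by
  obtain ⟨n, U, hU, hle, hcov⟩ := hl
  let ι := ULift.{u} (Fin n)
  let Z : Scheme.{u} := ∐ fun k : ι => Spec Γ(X, U k.down)
  let g : Z ⟶ Spec Γ(Y, W) := Limits.Sigma.desc fun k : ι => Spec.map (f.appLE W (U k.down) (hle _))
  let j : Z ⟶ X := Limits.Sigma.desc fun k : ι => (hU k.down).fromSpec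
  haveI : Flat g := IsZariskiLocalAtSource.sigmaDesc (P := @Flat) fun k => by
    have : Flat ((hU k.down).fromSpec ≫ f) := inferInstance
    rw [← IsAffineOpen.SpecMap_appLE_fromSpec f hW (hU k.down) (hle _)] at this
    exact MorphismProperty.of_postcomp (W := @Flat) (W' := @IsOpenImmersion) _ hW.fromSpec
      inferInstance this
  have hgj : g ≫ hW.fromSpec = j ≫ f := Limits.Sigma.hom_ext _ _ fun k => by
    simp only [g, j, Limits.colimit.ι_desc_assoc, Limits.Cofan.mk_ι_app]
    exact IsAffineOpen.SpecMap_appLE_fromSpec f hW (hU k.down) (hle _)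
  haveI : Surjective g := ⟨fun y => by
    have hyW : hW.fromSpec y ∈ W := hW.range_fromSpec.le ⟨y, rfl⟩
    obtain ⟨k, x', hx', he⟩ := hcov _ hyW
    obtain ⟨p, rfl⟩ := (hU k).range_fromSpec.ge hx'
    let c : Spec Γ(X, U k) ⟶ Z := Limits.Sigma.ι (fun k : ι => Spec Γ(X, U k.down)) ⟨k⟩
    refine ⟨c p, hW.fromSpec.isOpenEmbedding.injective ?_⟩
    rw [← he, ← Scheme.Hom.comp_apply, hgj, Scheme.Hom.comp_apply]
    refine congrArg f ?_
    rw [← Scheme.Hom.comp_apply]
    simp [c, j]⟩
  haveI : Coh.IsQCoh ((Scheme.Modules.pullback g).obj ((Scheme.Modules.pullback hW.fromSpec).obj M)) :=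
    DCohLib.isQCoh_of_iso'
      ((cmpIso M j (f := f) (h := j ≫ f) rfl) ≪≫ (cmpIso M g (f := hW.fromSpec) (h := j ≫ f) hgj).symm)
      (isQCoh_pullback j _)
  haveI := isQCoh_of_pullback_affine ((Scheme.Modules.pullback hW.fromSpec).obj M) g
  haveI : Coh.IsQCoh (M.restrict hW.fromSpec) :=
    DCohLib.isQCoh_of_iso' ((Scheme.Modules.restrictFunctorIsoPullback hW.fromSpec).app M).symm ‹_›
  exact Scheme.Modules.isIso_fromTildeΓ_of_isQuasicoherent _

/-- Quasi-coherence descends along fpqc morphisms, for arbitrary modules. -/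
theorem isQCoh_of_pullback [Flat f] [Surjective f] [QuasiCompact f]
    [Coh.IsQCoh ((Scheme.Modules.pullback f).obj M)] : Coh.IsQCoh M :=
  isQCoh_of_isIso_fromTildeΓ M (fun W : Y.affineOpens => W.1) (fun W => W.2)
    (iSup_affineOpens_eq_top Y) fun W =>
      isIso_fromTildeΓ_restrict_of_pullback f M W.2 (hasAffineLift_of_quasiCompact f W.2)

end Groth.Agent.FpqcQCoh
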