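import Groth.Agent.PullbackMod.Sections
import Mathlib.AlgebraicGeometry.Morphisms.Affine
import Mathlib.RingTheory.IsTensorProduct

/-!
# Pullback maps between inverse images of a module of arbitrary shape

For `t ≫ f = h` the canonical map `Γ(f^*M) → Γ(h^*M)`: functoriality, semilinearity and the base
change property for cartesian squares of affine schemes.
-/

set_option autoImplicit false
set_option backward.isDefEq.respectTransparency false
set_option backward.defeqAttrib.useBackward true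
set_option linter.style.haveILetI false

universe u

open CategoryTheory CategoryTheory.Limits AlgebraicGeometry TopologicalSpace Opposite TensorProduct
open Groth.Agent.PullbackMod Groth.Agent.CohBase

namespace Groth.Agent.FpqcQCoh

theorem bijective_of_baseChange {A B C D : Type u} [CommRing A] [CommRing B] [CommRing C] [CommRing D]
    [Algebra A B] [Algebra A C] [Algebra A D] [Algebra B D] [Algebra C D] [IsScalarTower A B D]
    [IsScalarTower A C D] [Algebra.IsPushout A C B D]
    {N W Q : Type u} [AddCommGroup N] [Module A N] [Module B N] [IsScalarTower A B N]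
    [AddCommGroup W] [Module B W] [Module D W] [IsScalarTower B D W] [AddCommGroup Q] [Module A Q]
    (L : N →ₗ[B] W) (hL : IsBaseChange D L) (i3 : W →+ Q) (h3 : Function.Bijective i3)
    (Φ : C ⊗[A] N →ₗ[A] Q) (hΦ : ∀ x m, Φ (x ⊗ₜ m) = i3 (algebraMap C D x • L m)) :
    Function.Bijective Φ := by
  let i1 := (Algebra.IsPushout.cancelBaseChange A C B D N).toAddEquiv
  let i2 := hL.equiv.toAddEquiv
  have heq : ∀ z, Φ z = i3 (i2 (i1.symm z)) := fun z => by
    induction z using TensorProduct.induction_on with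
    | zero => simp
    | add y z hy hz => simp only [map_add, hy, hz]
    | tmul x m =>
      rw [hΦ]
      have : i1.symm (x ⊗ₜ m) = algebraMap C D x ⊗ₜ m :=
        Algebra.IsPushout.cancelBaseChange_symm_tmul A C B D N x m
      rw [this]
      rw [show i2 (algebraMap C D x ⊗ₜ[B] m) = hL.equiv (algebraMap C D x ⊗ₜ[B] m) from rfl,
        IsBaseChange.equiv_tmul]
  have : ⇑Φ = i3 ∘ i2 ∘ i1.symm := funext heq
  rw [this]
  exact h3.comp (i2.bijective.comp i1.symm.bijective)

variable {S X T : Scheme.{u}} (M : S.Modules) {f : X ⟶ S} (t : T ⟶ X) {h : T ⟶ S} (e : t ≫ f = h)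

/-- The inverse image of an inverse image. -/
noncomputable def cmpIso : (Scheme.Modules.pullback t).obj ((Scheme.Modules.pullback f).obj M) ≅
    (Scheme.Modules.pullback h).obj M :=
  (Scheme.Modules.pullbackComp t f).app M ≪≫ (Scheme.Modules.pullbackCongr e).app M

/-- The canonical map `f^*M ⟶ t_* h^*M`. -/
noncomputable def vMap : (Scheme.Modules.pullback f).obj M ⟶
    (Scheme.Modules.pushforward t).obj ((Scheme.Modules.pullback h).obj M) :=
  (Scheme.Modules.pullbackPushforwardAdjunction t).homEquiv _ _ (cmpIso M t e).hom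

/-- The canonical map on global sections. -/
noncomputable def dMap : Γ((Scheme.Modules.pullback f).obj M, ⊤) →+
    Γ((Scheme.Modules.pullback h).obj M, ⊤) :=
  ((vMap M t e).app ⊤).hom

theorem vMap_pullMap_preimage {W : S.Opens} (s : Γ(M, W)) :
    (vMap M t e).app (f ⁻¹ᵁ W) (pullMap f M le_rfl s) =
      pullMap h M (show t ⁻¹ᵁ f ⁻¹ᵁ W ≤ h ⁻¹ᵁ W by subst e; exact le_rfl) s := by
  subst e
  have hu := unit_conjugateEquiv
    ((Scheme.Modules.pullbackPushforwardAdjunction f).comp
      (Scheme.Modules.pullbackPushforwardAdjunction t))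
    (Scheme.Modules.pullbackPushforwardAdjunction (t ≫ f)) (Scheme.Modules.pullbackComp t f).inv M
  rw [Scheme.Modules.conjugateEquiv_pullbackComp_inv] at hu
  have key : (Scheme.Modules.pullbackPushforwardAdjunction f).homEquiv _ _ (vMap M t rfl) ≫
      (Scheme.Modules.pushforwardComp t f).hom.app _ =
      (Scheme.Modules.pullbackPushforwardAdjunction (t ≫ f)).unit.app M := by
    have hc : (Scheme.Modules.pullbackPushforwardAdjunction f).homEquiv _ _ (vMap M t rfl) =
        ((Scheme.Modules.pullbackPushforwardAdjunction f).comp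
          (Scheme.Modules.pullbackPushforwardAdjunction t)).unit.app M ≫
          (Scheme.Modules.pushforward t ⋙ Scheme.Modules.pushforward f).map
            ((Scheme.Modules.pullbackComp t f).hom.app M) := by
      rw [Adjunction.homEquiv_unit, vMap, Adjunction.homEquiv_unit, Adjunction.comp_unit_app]
      simp [cmpIso, Scheme.Modules.pullbackCongr]
    rw [hc, Category.assoc,
      (Scheme.Modules.pushforwardComp t f).hom.naturality ((Scheme.Modules.pullbackComp t f).hom.app M),
      ← Category.assoc, hu, Category.assoc, ← Functor.map_comp, Iso.inv_hom_id_app]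
    simp
  have hk := ConcreteCategory.congr_hom (congrArg (fun ψ : M ⟶ _ => ψ.app W) key) s
  rw [Adjunction.homEquiv_unit] at hk
  show (vMap M t rfl).app (f ⁻¹ᵁ W) (((Scheme.Modules.pullback f).obj M).presheaf.map
    (homOfLE le_rfl).op (((Scheme.Modules.pullbackPushforwardAdjunction f).unit.app M).app W s)) =
    ((Scheme.Modules.pullback (t ≫ f)).obj M).presheaf.map _
      (((Scheme.Modules.pullbackPushforwardAdjunction (t ≫ f)).unit.app M).app W s)
  exact (congrArg _ (restr_self _ le_rfl _)).trans (hk.trans (restr_self _ le_rfl _).symm)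

theorem vMap_pullMap {W : S.Opens} {W' : X.Opens} (hW : W' ≤ f ⁻¹ᵁ W) (s : Γ(M, W)) :
    (vMap M t e).app W' (pullMap f M hW s) =
      pullMap h M (show t ⁻¹ᵁ W' ≤ h ⁻¹ᵁ W by subst e; exact t.preimage_mono hW) s := by
  have hn := ConcreteCategory.congr_hom ((vMap M t e).mapPresheaf.naturality (homOfLE hW).op)
    (pullMap f M (le_refl (f ⁻¹ᵁ W)) s)
  have h1 : pullMap f M hW s = ((Scheme.Modules.pullback f).obj M).presheaf.map (homOfLE hW).op
      (pullMap f M (le_refl (f ⁻¹ᵁ W)) s) := by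
    refine Eq.trans ?_ (pullMap_res f M le_rfl le_rfl hW hW s).symm
    rw [restr_self]
  rw [h1]
  refine hn.trans ?_
  refine Eq.trans (congrArg (((Scheme.Modules.pullback h).obj M).presheaf.map _)
    (vMap_pullMap_preimage M t e s)) ?_
  exact (pullMap_res h M _ le_rfl (t.preimage_mono hW) _ s).trans (by rw [restr_self])

theorem dMap_eq (m : Γ((Scheme.Modules.pullback f).obj M, ⊤)) :
    dMap M t e m = (cmpIso M t e).hom.app ⊤
      (pullMap t ((Scheme.Modules.pullback f).obj M) (show (⊤ : T.Opens) ≤ t ⁻¹ᵁ ⊤ from le_rfl) m) := by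
  show (vMap M t e).app ⊤ m = _
  rw [vMap, Adjunction.homEquiv_unit]
  show (cmpIso M t e).hom.app ⊤ (((Scheme.Modules.pullbackPushforwardAdjunction t).unit.app _).app ⊤ m) = _
  congr 1
  exact (restr_self _ le_rfl _).symm

theorem dMap_smul (a : Γ(X, ⊤)) (m : Γ((Scheme.Modules.pullback f).obj M, ⊤)) :
    dMap M t e (a • m) = t.appTop a • dMap M t e m :=
  Scheme.Modules.Hom.app_smul (vMap M t e) a m

theorem dMap_comp {U : Scheme.{u}} (q : U ⟶ T) {h' : U ⟶ S} (e' : q ≫ h = h') (r : U ⟶ X)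
    (e'' : r ≫ f = h') (hr : q ≫ t = r) (m : Γ((Scheme.Modules.pullback f).obj M, ⊤)) :
    dMap M q e' (dMap M t e m) = dMap M r e'' m := by
  subst hr
  have key : vMap M t e ≫ (Scheme.Modules.pushforward t).map (vMap M q e') ≫
      (Scheme.Modules.pushforwardComp q t).hom.app _ = vMap M (q ≫ t) e'' := by
    refine ((Scheme.Modules.pullbackPushforwardAdjunction f).homEquiv _ _).injective ?_
    rw [Adjunction.homEquiv_unit, Adjunction.homEquiv_unit]
    ext W s
    show (vMap M q e').app (t ⁻¹ᵁ f ⁻¹ᵁ W) ((vMap M t e).app (f ⁻¹ᵁ W)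
      (((Scheme.Modules.pullbackPushforwardAdjunction f).unit.app M).app W s)) =
      (vMap M (q ≫ t) e'').app (f ⁻¹ᵁ W)
        (((Scheme.Modules.pullbackPushforwardAdjunction f).unit.app M).app W s)
    have h0 : pullMap f M (le_refl (f ⁻¹ᵁ W)) s =
        ((Scheme.Modules.pullbackPushforwardAdjunction f).unit.app M).app W s := restr_self _ le_rfl _
    rw [← h0, vMap_pullMap, vMap_pullMap, vMap_pullMap]
    rfl
  exact ConcreteCategory.congr_hom (congrArg (fun ψ : (Scheme.Modules.pullback f).obj M ⟶ _ => ψ.app ⊤) key) m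

theorem dMap_injective_id {h : X ⟶ S} (e : 𝟙 X ≫ f = h) : Function.Injective (dMap M (𝟙 X) e) := by
  haveI : (Scheme.Modules.pullback (𝟙 X)).IsEquivalence :=
    Functor.isEquivalence_of_iso (Scheme.Modules.pullbackId X).symm
  haveI : IsIso (vMap M (𝟙 X) e) := by
    rw [vMap, Adjunction.homEquiv_unit]
    infer_instance
  exact ((ConcreteCategory.isIso_iff_bijective ((vMap M (𝟙 X) e).app ⊤)).1 inferInstance).1

set_option maxHeartbeats 800000 in
/-- Base change for a cartesian square of affine schemes. -/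
theorem bijective_lift_dMap [Coh.IsQCoh ((Scheme.Modules.pullback f).obj M)]
    {Z P : Scheme.{u}} [IsAffine S] [IsAffine X] [IsAffine Z] {g : Z ⟶ S} {p1 : P ⟶ X}
    {p2 : P ⟶ Z} (sq : IsPullback p1 p2 f g) {h : P ⟶ S} (e : p1 ≫ f = h)
    [Algebra Γ(S, ⊤) Γ(Z, ⊤)] (hg : algebraMap Γ(S, ⊤) Γ(Z, ⊤) = g.appTop.hom)
    [Module Γ(S, ⊤) Γ((Scheme.Modules.pullback f).obj M, ⊤)]
    (hN : ∀ (a : Γ(S, ⊤)) (m : Γ((Scheme.Modules.pullback f).obj M, ⊤)), a • m = f.appTop a • m)
    [Module Γ(S, ⊤) Γ((Scheme.Modules.pullback h).obj M, ⊤)]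
    (Φ : Γ(Z, ⊤) ⊗[Γ(S, ⊤)] Γ((Scheme.Modules.pullback f).obj M, ⊤) →ₗ[Γ(S, ⊤)]
      Γ((Scheme.Modules.pullback h).obj M, ⊤))
    (hΦ : ∀ x m, Φ (x ⊗ₜ m) = p2.appTop x • dMap M p1 e m) : Function.Bijective Φ := by
  haveI : IsAffine P := .of_isIso sq.isoPullback.hom
  let F := (Scheme.Modules.pullback f).obj M
  let A := Γ(S, ⊤)
  let B := Γ(X, ⊤)
  let C := Γ(Z, ⊤)
  let D := Γ(P, ⊤)
  obtain rfl : h = p1 ≫ f := e.symm
  have hz : (⊤ : P.Opens) ≤ p1 ⁻¹ᵁ ⊤ := le_rfl
  have happ : (p1.appLE ⊤ ⊤ hz) = p1.appTop := p1.appLE_eq_app (U := ⊤)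
  letI : Algebra A B := f.appTop.hom.toAlgebra
  letI : Algebra B D := (p1.appLE ⊤ ⊤ hz).hom.toAlgebra
  letI : Algebra C D := p2.appTop.hom.toAlgebra
  letI : Algebra A D := ((p1.appLE ⊤ ⊤ hz).hom.comp f.appTop.hom).toAlgebra
  haveI : IsScalarTower A B D := .of_algebraMap_eq fun _ => rfl
  haveI : IsScalarTower A C D := .of_algebraMap_eq' (by
    rw [hg]
    show (f.appTop ≫ p1.appLE ⊤ ⊤ hz).hom = (g.appTop ≫ p2.appTop).hom
    rw [happ, ← Scheme.Hom.comp_appTop, ← Scheme.Hom.comp_appTop, sq.w])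
  have hpo := isPushout_appTop_of_isPullback sq
  haveI hpush : Algebra.IsPushout A C B D := by
    refine Algebra.IsPushout.symm (R := A) (S := B) (R' := C) (h := ?_)
    refine CommRingCat.isPushout_iff_isPushout.mp ?_
    have he : CommRingCat.ofHom (algebraMap A C) = g.appTop := by rw [hg]; rfl
    show IsPushout f.appTop (CommRingCat.ofHom (algebraMap A C)) (p1.appLE ⊤ ⊤ hz) p2.appTop
    rw [he, happ]
    exact hpo
  haveI : IsScalarTower A B Γ(F, ⊤) := ⟨fun a b m => by
    rw [hN, smul_smul]; rfl⟩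
  letI : Module B Γ((Scheme.Modules.pullback p1).obj F, ⊤) :=
    Module.compHom _ (p1.appLE ⊤ ⊤ hz).hom
  haveI : IsScalarTower B D Γ((Scheme.Modules.pullback p1).obj F, ⊤) :=
    .of_algebraMap_smul fun _ _ => rfl
  have hbc : IsBaseChange D (pullMapL p1 F hz) :=
    isBaseChange_pullMapL p1 F (isAffineOpen_top X) (isAffineOpen_top P) hz
  have h3 : Function.Bijective ((cmpIso M p1 (f := f) (h := p1 ≫ f) rfl).hom.app ⊤) :=
    (ConcreteCategory.isIso_iff_bijective ((cmpIso M p1 (f := f) (h := p1 ≫ f) rfl).hom.app ⊤)).1 inferInstance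
  refine bijective_of_baseChange (A := A) (B := B) (C := C) (D := D) (pullMapL p1 F hz) hbc
    ((cmpIso M p1 (f := f) (h := p1 ≫ f) rfl).hom.app ⊤).hom h3 Φ fun x m => ?_
  rw [hΦ, dMap_eq]
  exact ((cmpIso M p1 (f := f) (h := p1 ≫ f) rfl).hom.app_smul _ _).symm

end Groth.Agent.FpqcQCoh
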