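import Groth.Agent.FpqcQCoh.Algebra
import Groth.Agent.FpqcQCoh.Faces
import Groth.Agent.RelTildeLib.Morph
import Groth.Agent.OmegaUnivLib.Compat
import Groth.Agent.QCohLib.Push
import Groth.Agent.DCohLib.QCohAbelian
import Groth.Agent.PullbackMod.Hom

/-!
# A module with quasi-coherent faithfully flat inverse image is quasi-coherent: affine case
-/

set_option autoImplicit false
set_option backward.isDefEq.respectTransparency false
set_option backward.defeqAttrib.useBackward true
set_option linter.style.haveILetI false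

universe u

open CategoryTheory CategoryTheory.Limits AlgebraicGeometry TopologicalSpace Opposite TensorProduct
open Groth.Agent.PullbackMod Groth.Agent.CohBase

namespace Groth.Agent.FpqcQCoh

theorem exists_semilinear_lift {A C D N Q : Type u} [CommRing A] [CommRing C] [CommRing D]
    [Algebra A C] [AddCommGroup N] [Module A N] [AddCommGroup Q] [Module A Q] [Module D Q]
    (p : C →+* D) (hp : ∀ (a : A) (q : Q), p (algebraMap A C a) • q = a • q) (d : N →ₗ[A] Q) :
    ∃ Φ : C ⊗[A] N →ₗ[A] Q, ∀ x m, Φ (x ⊗ₜ m) = p x • d m :=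
  ⟨TensorProduct.lift (LinearMap.mk₂ A (fun x m => p x • d m)
      (fun x y m => by simp only [map_add, add_smul])
      (fun a x m => by simp only [Algebra.smul_def, map_mul, mul_smul, hp])
      (fun x m m' => by simp only [map_add, smul_add])
      (fun a x m => by
        simp only [map_smul, ← hp a (d m), ← hp a (p x • d m), smul_smul, mul_comm])),
    fun _ _ => rfl⟩

theorem bijective_of_baseChange_eqLocus {A B N N' K FK : Type u} [CommRing A] [CommRing B]
    [Algebra A B] [AddCommGroup N] [Module A N] [Module B N] [IsScalarTower A B N]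
    [AddCommGroup N'] [Module A N'] [AddCommGroup K] [Module A K] [AddCommGroup FK] [Module A FK]
    [Module B FK] [IsScalarTower A B FK] {a r : N →ₗ[A] N'} (L : K →ₗ[A] FK) (hL : IsBaseChange B L)
    (e : K →ₗ[A] N) (he : Function.Injective e) (hmem : ∀ k, a (e k) = r (e k))
    (hsurj : ∀ n, a n = r n → ∃ k, e k = n)
    (hμ : Function.Bijective (mulSub (B := B) (LinearMap.eqLocus a r)))
    (ψ : FK →+ N) (hψ : ∀ (x : B) k, ψ (x • L k) = x • e k) : Function.Bijective ψ := by
  let e' : K ≃ₗ[A] LinearMap.eqLocus a r := LinearEquiv.ofBijective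
    (e.codRestrict (LinearMap.eqLocus a r) hmem)
    ⟨fun _ _ h => he (congrArg Subtype.val h), fun n => by
      obtain ⟨k, hk⟩ := hsurj n.1 n.2
      exact ⟨k, Subtype.ext hk⟩⟩
  let i := (e'.symm.lTensor B).toAddEquiv.trans hL.equiv.toAddEquiv
  have h : ∀ z, ψ (i z) = mulSub (LinearMap.eqLocus a r) z := fun z => by
    induction z using TensorProduct.induction_on with
    | zero => simp
    | add y z hy hz => simp only [map_add, hy, hz]
    | tmul x k =>
      show ψ (hL.equiv (x ⊗ₜ e'.symm k)) = x • (k : N)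
      rw [IsBaseChange.equiv_tmul, hψ]
      exact congrArg (x • ·) (congrArg Subtype.val (e'.apply_symm_apply k))
  refine (Function.Bijective.of_comp_iff _ i.bijective).1 ?_
  rwa [show ⇑ψ ∘ ⇑i = ⇑(mulSub (B := B) (LinearMap.eqLocus a r)) from funext h]

variable {S X : Scheme.{u}}

theorem isIso_of_bijective_app_top [IsAffine X] {F G : X.Modules} (φ : F ⟶ G)
    [Coh.IsQCoh F] [Coh.IsQCoh G] (h : Function.Bijective (φ.app ⊤)) : IsIso φ :=
  OmegaUnivLib.isIso_of_bijective_cover φ fun x => ⟨⊤, isAffineOpen_top X, Set.mem_univ x, h⟩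

variable (M : S.Modules) (f : X ⟶ S)

/-- The direct image of a pullback map. -/
noncomputable def uMap {T : Scheme.{u}} (t : T ⟶ X) {h : T ⟶ S} (e : t ≫ f = h) :
    (Scheme.Modules.pushforward f).obj ((Scheme.Modules.pullback f).obj M) ⟶
      (Scheme.Modules.pushforward h).obj ((Scheme.Modules.pullback h).obj M) :=
  (Scheme.Modules.pushforward f).map (vMap M t e) ≫
    (Scheme.Modules.pushforwardComp t f).hom.app _ ≫ (Scheme.Modules.pushforwardCongr e).hom.app _

theorem uMap_app_top {T : Scheme.{u}} (t : T ⟶ X) {h : T ⟶ S} (e : t ≫ f = h)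
    (m : Γ((Scheme.Modules.pullback f).obj M, ⊤)) : (uMap M f t e).app ⊤ m = dMap M t e m := by
  subst e
  exact restr_self _ le_rfl _

theorem unit_uMap {T : Scheme.{u}} (t : T ⟶ X) {h : T ⟶ S} (e : t ≫ f = h) :
    (Scheme.Modules.pullbackPushforwardAdjunction f).unit.app M ≫ uMap M f t e =
      (Scheme.Modules.pullbackPushforwardAdjunction h).unit.app M := by
  subst e
  ext W s
  have h0 : pullMap f M (le_refl (f ⁻¹ᵁ W)) s =
      ((Scheme.Modules.pullbackPushforwardAdjunction f).unit.app M).app W s := restr_self _ le_rfl _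
  show ((Scheme.Modules.pullback (t ≫ f)).obj M).presheaf.map _
    ((vMap M t rfl).app (f ⁻¹ᵁ W)
      (((Scheme.Modules.pullbackPushforwardAdjunction f).unit.app M).app W s)) = _
  rw [← h0, vMap_pullMap]
  exact (restr_self _ le_rfl _).trans (restr_self _ le_rfl _)

set_option maxHeartbeats 1600000 in
/-- Quasi-coherence descends along a flat surjective morphism of affine schemes. -/
theorem isQCoh_of_pullback_affine [IsAffine S] [IsAffine X] [Flat f] [Surjective f]
    [Coh.IsQCoh ((Scheme.Modules.pullback f).obj M)] : Coh.IsQCoh M := by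
  let a : pullback f f ⟶ X := pullback.fst f f
  let b : pullback f f ⟶ X := pullback.snd f f
  let h2 : pullback f f ⟶ S := a ≫ f
  have ea : a ≫ f = h2 := rfl
  have eb : b ≫ f = h2 := pullback.condition.symm
  let s : pullback h2 f ⟶ pullback f f := pullback.fst h2 f
  let k : pullback h2 f ⟶ X := pullback.snd h2 f
  let h3 : pullback h2 f ⟶ S := s ≫ h2
  have ek : k ≫ f = h3 := pullback.condition.symm
  haveI : IsAffine (pullback f f) := .of_isIso (IsPullback.of_hasPullback f f).isoPullback.hom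
  haveI : IsAffine (pullback h2 f) := .of_isIso (IsPullback.of_hasPullback h2 f).isoPullback.hom
  let F := (Scheme.Modules.pullback f).obj M
  haveI hq2 : Coh.IsQCoh ((Scheme.Modules.pullback h2).obj M) :=
    DCohLib.isQCoh_of_iso' (cmpIso M a ea) (isQCoh_pullback a F)
  let δ := uMap M f a ea - uMap M f b eb
  let K := kernel δ
  haveI : Coh.IsQCoh ((Scheme.Modules.pushforward f).obj F) := QCohLib.isQCoh_pushforward _ f
  haveI : Coh.IsQCoh ((Scheme.Modules.pushforward h2).obj ((Scheme.Modules.pullback h2).obj M)) :=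
    QCohLib.isQCoh_pushforward _ h2
  haveI hK : Coh.IsQCoh K := (QCohLib.isQCoh_image δ inferInstance inferInstance).1
  let φ : M ⟶ K := kernel.lift δ ((Scheme.Modules.pullbackPushforwardAdjunction f).unit.app M)
    (by rw [Preadditive.comp_sub, unit_uMap, unit_uMap, sub_self])
  let ψ : (Scheme.Modules.pullback f).obj K ⟶ F :=
    ((Scheme.Modules.pullbackPushforwardAdjunction f).homEquiv _ _).symm (kernel.ι δ)
  have hφψ : (Scheme.Modules.pullback f).map φ ≫ ψ = 𝟙 F := by
    rw [← Adjunction.homEquiv_naturality_left_symm, kernel.lift_ι, Equiv.symm_apply_eq,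
      Adjunction.homEquiv_id]
  haveI : Coh.IsQCoh ((Scheme.Modules.pullback f).obj K) := isQCoh_pullback f K
  -- global sections
  have hz : (⊤ : X.Opens) ≤ f ⁻¹ᵁ ⊤ := le_rfl
  have happ : f.appLE ⊤ ⊤ hz = f.appTop := f.appLE_eq_app (U := ⊤)
  have hψK : ∀ m : Γ(K, ⊤), ψ.app ⊤ (pullMap f K hz m) = (kernel.ι δ).app ⊤ m := fun m => by
    have h0 : pullMap f K hz m =
      ((Scheme.Modules.pullbackPushforwardAdjunction f).unit.app K).app ⊤ m := restr_self _ le_rfl _
    rw [h0]
    have hu : (Scheme.Modules.pullbackPushforwardAdjunction f).homEquiv _ _ ψ = kernel.ι δ :=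
      Equiv.apply_symm_apply _ _
    rw [Adjunction.homEquiv_unit] at hu
    exact ConcreteCategory.congr_hom (congrArg (fun η : K ⟶ _ => η.app ⊤) hu) m
  let A := Γ(S, ⊤)
  letI : Algebra A Γ(X, ⊤) := (f.appLE ⊤ ⊤ hz).hom.toAlgebra
  have hg : algebraMap A Γ(X, ⊤) = f.appTop.hom := congrArg CommRingCat.Hom.hom happ
  letI : Module A Γ(F, ⊤) := Module.compHom _ f.appTop.hom
  letI : Module A Γ((Scheme.Modules.pullback h2).obj M, ⊤) := Module.compHom _ h2.appTop.hom
  letI : Module A Γ((Scheme.Modules.pullback h3).obj M, ⊤) := Module.compHom _ h3.appTop.hom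
  haveI : IsScalarTower A Γ(X, ⊤) Γ(F, ⊤) := .of_algebraMap_smul fun c m => by
    show f.appLE ⊤ ⊤ hz c • m = f.appTop c • m
    rw [happ]
  let mkA : ∀ (T U : Scheme.{u}) {h : T ⟶ S} {h' : U ⟶ S} (t : U ⟶ T) (e : t ≫ h = h')
      [Module A Γ((Scheme.Modules.pullback h).obj M, ⊤)]
      [Module A Γ((Scheme.Modules.pullback h').obj M, ⊤)],
      (∀ (c : A) (m : Γ((Scheme.Modules.pullback h).obj M, ⊤)), c • m = h.appTop c • m) →
      (∀ (c : A) (m : Γ((Scheme.Modules.pullback h').obj M, ⊤)), c • m = h'.appTop c • m) →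
      Γ((Scheme.Modules.pullback h).obj M, ⊤) →ₗ[A] Γ((Scheme.Modules.pullback h').obj M, ⊤) :=
    fun T U h h' t e _ _ H H' => { dMap M t e with
      map_smul' := fun c m => by
        show dMap M t e (c • m) = c • dMap M t e m
        rw [H, dMap_smul, H']
        subst e
        rw [Scheme.Hom.comp_appTop]
        rfl }
  let la := mkA X _ a ea (fun _ _ => rfl) (fun _ _ => rfl)
  let lb := mkA X _ b eb (fun _ _ => rfl) (fun _ _ => rfl)
  let j02 : pullback h2 f ⟶ pullback f f := pullback.lift (s ≫ a) k (by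
    rw [Category.assoc]; exact pullback.condition)
  let j12 : pullback h2 f ⟶ pullback f f := pullback.lift (s ≫ b) k (by
    rw [Category.assoc, eb]; exact pullback.condition)
  have e01 : s ≫ h2 = h3 := rfl
  have e02 : j02 ≫ h2 = h3 := by
    show j02 ≫ a ≫ f = _
    rw [← Category.assoc, pullback.lift_fst, Category.assoc]
  have e12 : j12 ≫ h2 = h3 := by
    show j12 ≫ a ≫ f = _
    rw [← Category.assoc, pullback.lift_fst, Category.assoc, eb]
  let l01 := mkA _ _ s e01 (fun _ _ => rfl) (fun _ _ => rfl)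
  let l02 := mkA _ _ j02 e02 (fun _ _ => rfl) (fun _ _ => rfl)
  let l12 := mkA _ _ j12 e12 (fun _ _ => rfl) (fun _ _ => rfl)
  obtain ⟨Φ, hΦ⟩ := exists_semilinear_lift (A := A) b.appTop.hom (fun c m => by
    rw [hg]
    show (f.appTop ≫ b.appTop) c • m = h2.appTop c • m
    rw [← Scheme.Hom.comp_appTop, eb]) la
  obtain ⟨Ψ, hΨ⟩ := exists_semilinear_lift (A := A) k.appTop.hom (fun c m => by
    rw [hg]
    show (f.appTop ≫ k.appTop) c • m = h3.appTop c • m
    rw [← Scheme.Hom.comp_appTop, ek]) l01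
  haveI : Module.Flat A Γ(X, ⊤) := by
    have := HasRingHomProperty.appTop (P := @Flat) f ‹_›
    rw [← happ] at this
    exact this
  have hμ : Function.Bijective (mulSub (B := Γ(X, ⊤)) (LinearMap.eqLocus la lb)) := by
    refine bijective_mulSub la lb l01 l02 l12 Φ Ψ ?_ ?_ ?_ ?_ ?_ ?_ ?_
    · exact bijective_lift_dMap M (IsPullback.of_hasPullback f f) ea hg (fun _ _ => rfl) Φ hΦ
    · exact (bijective_lift_dMap M (IsPullback.of_hasPullback h2 f) e01 hg (fun _ _ => rfl) Ψ hΨ).1
    · intro n n' hn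
      let Δ : X ⟶ pullback f f := pullback.lift (𝟙 X) (𝟙 X) rfl
      have eΔ : Δ ≫ h2 = 𝟙 X ≫ f := by
        show Δ ≫ a ≫ f = _
        rw [← Category.assoc, pullback.lift_fst]
      refine dMap_injective_id M (rfl : 𝟙 X ≫ f = 𝟙 X ≫ f) ?_
      rw [← dMap_comp M b eb Δ eΔ (𝟙 X) rfl (pullback.lift_snd _ _ _),
        ← dMap_comp M b eb Δ eΔ (𝟙 X) rfl (pullback.lift_snd _ _ _)]
      exact congrArg (dMap M Δ eΔ) hn
    · intro x n hn
      rw [hΦ, hn]
      exact (dMap_smul M b eb x n).symm
    · intro x n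
      rw [hΨ, hΦ]
      show k.appTop x • dMap M s e01 (dMap M a ea n) = dMap M j02 e02 (b.appTop x • dMap M a ea n)
      rw [dMap_smul, dMap_comp M a ea s e01 (s ≫ a) (by rw [Category.assoc]) rfl,
        dMap_comp M a ea j02 e02 (s ≫ a) (by rw [Category.assoc]) (pullback.lift_fst _ _ _)]
      rw [show j02.appTop (b.appTop x) = k.appTop x by
        rw [← CommRingCat.comp_apply, ← Scheme.Hom.comp_appTop, pullback.lift_snd]]
    · intro x n
      rw [hΨ, hΦ]
      show k.appTop x • dMap M s e01 (dMap M b eb n) = dMap M j12 e12 (b.appTop x • dMap M a ea n)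
      rw [dMap_smul, dMap_comp M b eb s e01 (s ≫ b) (by rw [Category.assoc, eb]) rfl,
        dMap_comp M a ea j12 e12 (s ≫ b) (by rw [Category.assoc, eb]) (pullback.lift_fst _ _ _)]
      rw [show j12.appTop (b.appTop x) = k.appTop x by
        rw [← CommRingCat.comp_apply, ← Scheme.Hom.comp_appTop, pullback.lift_snd]]
    · intro n
      show dMap M j02 e02 (dMap M b eb n) = dMap M j12 e12 (dMap M b eb n)
      rw [dMap_comp M b eb j02 e02 k ek (pullback.lift_snd _ _ _),
        dMap_comp M b eb j12 e12 k ek (pullback.lift_snd _ _ _)]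
  letI : Module A Γ((Scheme.Modules.pullback f).obj K, ⊤) :=
    Module.compHom _ (f.appLE ⊤ ⊤ hz).hom
  haveI : IsScalarTower A Γ(X, ⊤) Γ((Scheme.Modules.pullback f).obj K, ⊤) :=
    .of_algebraMap_smul fun _ _ => rfl
  let L := pullMapL f K hz
  have hL : IsBaseChange Γ(X, ⊤) L :=
    isBaseChange_pullMapL f K (isAffineOpen_top S) (isAffineOpen_top X) hz
  let eK : Γ(K, ⊤) →ₗ[A] Γ(F, ⊤) :=
    { toFun := fun m => (kernel.ι δ).app ⊤ m
      map_add' := fun m m' => map_add ((kernel.ι δ).app ⊤).hom m m'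
      map_smul' := fun c m => Scheme.Modules.Hom.app_smul (kernel.ι δ) c m }
  have hδ : ∀ n : Γ(F, ⊤), δ.app ⊤ n = la n - lb n := fun n => by
    show (uMap M f a ea).app ⊤ n - (uMap M f b eb).app ⊤ n = _
    rw [uMap_app_top, uMap_app_top]
    rfl
  have hbij : Function.Bijective (ψ.app ⊤) := by
    refine bijective_of_baseChange_eqLocus (a := la) (r := lb) L hL eK ?_ ?_ ?_ hμ (ψ.app ⊤).hom ?_
    · exact RelTildeLib.app_injective_of_mono (kernel.ι δ) ⊤
    · intro m
      rw [← sub_eq_zero, ← hδ]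
      exact ConcreteCategory.congr_hom (congrArg (fun η : K ⟶ _ => η.app ⊤) (kernel.condition δ)) m
    · intro n hn
      exact QCohLib.kernel_app_exact δ ⊤ n (by rw [hδ, hn, sub_self])
    · intro x m
      show ψ.app ⊤ (x • pullMap f K hz m) = _
      rw [Scheme.Modules.Hom.app_smul, hψK]
      rfl
  haveI : IsIso ψ := isIso_of_bijective_app_top ψ hbij
  haveI : IsIso ((Scheme.Modules.pullback f).map φ) :=
    IsIso.of_isIso_fac_right hφψ
  haveI : Mono φ := (mono_map_pullback_iff f φ).1 inferInstance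
  haveI : Epi φ := (epi_map_pullback_iff f φ).1 inferInstance
  haveI : IsIso φ := isIso_of_mono_of_epi φ
  exact DCohLib.isQCoh_of_iso' (asIso φ).symm hK

end Groth.Agent.FpqcQCoh
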