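import Mathlib.RingTheory.TensorProduct.Basic
import Mathlib.RingTheory.Flat.Basic
import Mathlib.RingTheory.Flat.Equalizer

/-!
# Equalisers of truncated Čech systems of modules

If `B` is flat over `A` and `a r : N → N'` are the two faces of a descent datum, `B ⊗_A eq(a, r) → N` is bijective.
Only a truncated system is needed: three faces `N' → N''` and a retraction of `r`.
-/

set_option autoImplicit false

open TensorProduct

namespace Groth.Agent.FpqcQCoh

universe u

variable {A B : Type u} [CommRing A] [CommRing B] [Algebra A B]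
  {N N' N'' : Type u} [AddCommGroup N] [Module A N] [Module B N] [IsScalarTower A B N]
  [AddCommGroup N'] [Module A N'] [AddCommGroup N''] [Module A N'']

/-- The multiplication map from the base change of a submodule. -/
noncomputable def mulSub (K : Submodule A N) : B ⊗[A] K →ₗ[A] N :=
  TensorProduct.lift ((LinearMap.lsmul B N).restrictScalars₁₂ A A ∘ₗ LinearMap.id |>.compl₂ K.subtype)

theorem mulSub_tmul (K : Submodule A N) (x : B) (k : K) : mulSub K (x ⊗ₜ[A] k) = x • (k : N) := rfl

/-- The descended module generates freely. -/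
theorem bijective_mulSub [Module.Flat A B] (a r : N →ₗ[A] N') (c01 c02 c12 : N' →ₗ[A] N'')
    (Φ : B ⊗[A] N →ₗ[A] N') (Ψ : B ⊗[A] N' →ₗ[A] N'') (hΦ : Function.Bijective Φ) (hΨ : Function.Injective Ψ)
    (hr : Function.Injective r)
    (hΦr : ∀ (x : B) (n : N), a n = r n → Φ (x ⊗ₜ[A] n) = r (x • n))
    (h0 : ∀ (x : B) (n : N), Ψ (x ⊗ₜ[A] a n) = c02 (Φ (x ⊗ₜ[A] n)))
    (h1 : ∀ (x : B) (n : N), Ψ (x ⊗ₜ[A] r n) = c12 (Φ (x ⊗ₜ[A] n)))
    (h2 : ∀ n : N, c02 (r n) = c12 (r n)) :
    Function.Bijective (mulSub (B := B) (LinearMap.eqLocus a r)) := by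
  let K := LinearMap.eqLocus a r
  let ι : B ⊗[A] K →ₗ[A] B ⊗[A] N := K.subtype.lTensor B
  have hι : Function.Injective ι :=
    Module.Flat.lTensor_preserves_injective_linearMap _ K.injective_subtype
  have key : ∀ z, Φ (ι z) = r (mulSub K z) := fun z => by
    induction z using TensorProduct.induction_on with
    | zero => simp
    | add y z hy hz => simp only [map_add, hy, hz]
    | tmul x k => rw [mulSub_tmul]; exact hΦr x k.1 k.2
  refine ⟨fun z w h => hι (hΦ.1 (by rw [key, key, h])), fun n => ?_⟩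
  obtain ⟨z, hz⟩ := hΦ.2 (r n)
  have hc : ∀ z, Ψ (a.lTensor B z) = c02 (Φ z) ∧ Ψ (r.lTensor B z) = c12 (Φ z) := fun z => by
    induction z using TensorProduct.induction_on with
    | zero => simp
    | add y z hy hz => simp only [map_add, hy.1, hy.2, hz.1, hz.2, and_self]
    | tmul x k => exact ⟨h0 x k, h1 x k⟩
  have hker : a.lTensor B z = r.lTensor B z := hΨ (by rw [(hc z).1, (hc z).2, hz, h2])
  have hex : Function.Exact ι ((a - r).lTensor B) := by
    refine Module.Flat.lTensor_exact B fun x => ?_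
    rw [LinearMap.sub_apply, sub_eq_zero]
    exact ⟨fun h => ⟨⟨x, h⟩, rfl⟩, fun ⟨k, hk⟩ => hk ▸ k.2⟩
  obtain ⟨w, rfl⟩ := (hex z).1 (by rw [LinearMap.lTensor_sub, LinearMap.sub_apply, hker, sub_self])
  exact ⟨w, hr (by rw [← key, hz])⟩

end Groth.Agent.FpqcQCoh
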