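import Groth.Agent.FpqcQCoh.Faces
import Groth.Agent.PullbackMod.Descent
import Groth.Agent.PullbackMod.Flat
import Groth.Agent.AdeqLib.FFFamily
import Groth.Agent.SchDesc.Family

/-!
# Sections of quasi-coherent modules along fpqc families
-/

set_option autoImplicit false
set_option backward.isDefEq.respectTransparency false
set_option backward.defeqAttrib.useBackward true
set_option linter.style.haveILetI false

universe u

open CategoryTheory CategoryTheory.Limits AlgebraicGeometry TopologicalSpace Opposite TensorProduct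
open Groth.Agent.PullbackMod Groth.Agent.CohBase

namespace Groth.Agent.FpqcQCoh

/-- Compatible families over a finite faithfully flat family of algebras come from the base. -/
theorem exists_of_compatible {A : Type u} [CommRing A] {κ : Type u} [Finite κ] (R : κ → Type u)
    [∀ k, CommRing (R k)] [∀ k, Algebra A (R k)] [Module.FaithfullyFlat A (∀ k, R k)]
    {N : Type u} [AddCommGroup N] [Module A N]
    (Nk : κ → Type u) [∀ k, AddCommGroup (Nk k)] [∀ k, Module A (Nk k)] [∀ k, Module (R k) (Nk k)]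
    [∀ k, IsScalarTower A (R k) (Nk k)] (L : ∀ k, N →ₗ[A] Nk k) (hL : ∀ k, IsBaseChange (R k) (L k))
    (D : κ → κ → Type u) [∀ k l, CommRing (D k l)] (Q : κ → κ → Type u)
    [∀ k l, AddCommGroup (Q k l)] [∀ k l, Module (D k l) (Q k l)]
    (μ : ∀ k l, R k ⊗[A] R l →+* D k l) (hμ : ∀ k l, Function.Bijective (μ k l))
    [∀ k l, Module A (Q k l)] (hQ : ∀ k l (a : A) (q : Q k l), a • q = μ k l (algebraMap A _ a) • q)
    (LQ : ∀ k l, N →ₗ[A] Q k l)
    (hLQ : ∀ k l, Function.Injective (TensorProduct.lift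
      (LinearMap.mk₂ A (fun (c : R k ⊗[A] R l) n => μ k l c • LQ k l n)
        (fun c c' n => by simp only [map_add, add_smul])
        (fun a c n => by rw [hQ, smul_smul, Algebra.smul_def, map_mul])
        (fun c n n' => by simp only [map_add, smul_add])
        (fun a c n => by rw [map_smul, hQ, hQ, smul_comm]))))
    (pl : ∀ k l, Nk k →+ Q k l) (pr : ∀ k l, Nk l →+ Q k l)
    (hpl : ∀ k l (c : R k) n, pl k l (c • L k n) = μ k l (c ⊗ₜ 1) • LQ k l n)
    (hpr : ∀ k l (c : R l) n, pr k l (c • L l n) = μ k l (1 ⊗ₜ c) • LQ k l n) :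
    (∀ n n' : N, (∀ k, L k n = L k n') → n = n') ∧
      ∀ y : ∀ k, Nk k, (∀ k l, pl k l (y k) = pr k l (y l)) → ∃ n, ∀ k, L k n = y k := by
  obtain ⟨hinj, hglue⟩ := AdeqLib.amitsur_family (R := A) R N
  have he : ∀ k n, L k n = (hL k).equiv ((1 : R k) ⊗ₜ n) := fun k n => by
    rw [IsBaseChange.equiv_tmul, one_smul]
  refine ⟨fun n n' h => sub_eq_zero.1 (hinj _ fun k => (hL k).equiv.injective ?_), fun y hy => ?_⟩
  · rw [← he, map_sub, h k, sub_self, map_zero]
  obtain ⟨n, hn⟩ := hglue (fun k => (hL k).equiv.symm (y k)) fun k l => by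
    refine hLQ k l ?_
    have h1 : ∀ z : R k ⊗[A] N, TensorProduct.lift (LinearMap.mk₂ A (fun (c : R k ⊗[A] R l) n => μ k l c • LQ k l n)
        (fun c c' n => by simp only [map_add, add_smul])
        (fun a c n => by rw [hQ, smul_smul, Algebra.smul_def, map_mul])
        (fun c n n' => by simp only [map_add, smul_add])
        (fun a c n => by rw [map_smul, hQ, hQ, smul_comm]))
        ((Algebra.TensorProduct.includeLeft (R := A) (S := A) (A := R k) (B := R l)).toLinearMap.rTensor N z) =
          pl k l ((hL k).equiv z) := fun z => by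
      induction z using TensorProduct.induction_on with
      | zero => simp
      | add a b ha hb => simp only [map_add, ha, hb]
      | tmul c n => rw [IsBaseChange.equiv_tmul, hpl]; rfl
    have h2 : ∀ z : R l ⊗[A] N, TensorProduct.lift (LinearMap.mk₂ A (fun (c : R k ⊗[A] R l) n => μ k l c • LQ k l n)
        (fun c c' n => by simp only [map_add, add_smul])
        (fun a c n => by rw [hQ, smul_smul, Algebra.smul_def, map_mul])
        (fun c n n' => by simp only [map_add, smul_add])
        (fun a c n => by rw [map_smul, hQ, hQ, smul_comm]))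
        ((Algebra.TensorProduct.includeRight (R := A) (A := R k) (B := R l)).toLinearMap.rTensor N z) =
          pr k l ((hL l).equiv z) := fun z => by
      induction z using TensorProduct.induction_on with
      | zero => simp
      | add a b ha hb => simp only [map_add, ha, hb]
      | tmul c n => rw [IsBaseChange.equiv_tmul, hpr]; rfl
    rw [h1, h2, LinearEquiv.apply_symm_apply, LinearEquiv.apply_symm_apply]
    exact hy k l
  exact ⟨n, fun k => by rw [he, hn k, LinearEquiv.apply_symm_apply]⟩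

theorem bijective_of_isPushout {A B C D : Type u} [CommRing A] [CommRing B] [CommRing C] [CommRing D]
    [Algebra A B] [Algebra A C] [Algebra A D] [Algebra B D] [Algebra C D] [IsScalarTower A B D]
    [IsScalarTower A C D] [Algebra.IsPushout A C B D] (μ : B ⊗[A] C →+* D)
    (h1 : ∀ b, μ (b ⊗ₜ 1) = algebraMap B D b) (h2 : ∀ c, μ (1 ⊗ₜ c) = algebraMap C D c) :
    Function.Bijective μ := by
  haveI : Algebra.IsPushout A B C D := Algebra.IsPushout.symm inferInstance
  have : (μ : B ⊗[A] C → D) = Algebra.IsPushout.equiv A B C D := funext fun z => by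
    induction z using TensorProduct.induction_on with
    | zero => simp
    | add a b ha hb => simp only [map_add, ha, hb]
    | tmul b c =>
      rw [Algebra.IsPushout.equiv_tmul, ← h1, ← h2, ← map_mul, Algebra.TensorProduct.tmul_mul_tmul,
        mul_one, one_mul]
  rw [this]
  exact (Algebra.IsPushout.equiv A B C D).bijective

theorem injective_lift_of_isBaseChange {A P D N Q : Type u} [CommRing A] [CommRing P] [CommRing D]
    [Algebra A P] [Algebra A D] [AddCommGroup N] [Module A N] [AddCommGroup Q] [Module A Q] [Module D Q]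
    [IsScalarTower A D Q] (μ : P →+* D) (hμA : ∀ a, μ (algebraMap A P a) = algebraMap A D a)
    (hμ : Function.Bijective μ) (L : N →ₗ[A] Q) (hL : IsBaseChange D L) (Φ : P ⊗[A] N →ₗ[A] Q)
    (hΦ : ∀ c n, Φ (c ⊗ₜ n) = μ c • L n) : Function.Injective Φ := by
  let m : P →ₗ[A] D :=
    { toFun := μ
      map_add' := map_add μ
      map_smul' := fun a c => by rw [RingHom.id_apply, Algebra.smul_def, map_mul, hμA, ← Algebra.smul_def] }
  let em := LinearEquiv.ofBijective m hμ
  let e := (em.rTensor N).toAddEquiv.trans hL.equiv.toAddEquiv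
  have : (Φ : P ⊗[A] N → Q) = e := funext fun z => by
    induction z using TensorProduct.induction_on with
    | zero => simp
    | add a b ha hb => simp only [map_add, ha, hb]
    | tmul c n =>
      rw [hΦ]
      exact (hL.equiv_tmul (μ c) n).symm
  rw [this]
  exact e.injective

section scheme

variable {S : Scheme.{u}} {ι : Type u} {X : ι → Scheme.{u}} (f : ∀ i, X i ⟶ S)

/-- A finite family of affine opens of the members covering an affine open of the base. -/
theorem exists_family_lift (hf : Presieve.ofArrows X f ∈ Scheme.fpqcPrecoverage S) {W : S.Opens}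
    (hW : IsAffineOpen W) :
    ∃ (κ : Type u) (_ : Fintype κ) (i : κ → ι) (U : ∀ k, (X (i k)).Opens),
      (∀ k, IsAffineOpen (U k)) ∧ (∀ k, U k ≤ f (i k) ⁻¹ᵁ W) ∧
      ∀ s ∈ W, ∃ k, ∃ x ∈ U k, f (i k) x = s := by
  obtain ⟨h₁, h₂⟩ := hf
  haveI : QuasiCompactCover ({ I₀ := ι, X := X, f := f } : PreZeroHypercover.{u} S) :=
    Scheme.presieve₀_mem_qcPrecoverage_iff.mp h₁
  obtain ⟨n, a, V, hV, heq⟩ := QuasiCompactCover.exists_isAffineOpen_of_isCompact
    ({ I₀ := ι, X := X, f := f } : PreZeroHypercover.{u} S) hW.isCompact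
  refine ⟨ULift.{u} (Fin n), inferInstance, fun k => a k.down, fun k => V k.down, fun k => hV _,
    fun k x hx => ?_, fun s hs => ?_⟩
  · exact heq.le (Set.mem_iUnion.2 ⟨k.down, x, hx, rfl⟩)
  · obtain ⟨k, x, hx, he⟩ := Set.mem_iUnion.1 (heq.ge hs)
    exact ⟨⟨k⟩, x, hx, he⟩

theorem flat_of_fpqc (hf : Presieve.ofArrows X f ∈ Scheme.fpqcPrecoverage S) (i : ι) : Flat (f i) :=
  ((Scheme.presieve₀_mem_precoverage_iff (P := @Flat)
    (E := ({ I₀ := ι, X := X, f := f } : PreZeroHypercover.{u} S))).mp hf.2).2 i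

variable (N : S.Modules)

/-- The canonical map between inverse images on opens. -/
noncomputable def plMap {T Z : Scheme.{u}} {g : Z ⟶ S} (t : T ⟶ Z) {h : T ⟶ S} (e : t ≫ g = h)
    {U : Z.Opens} {V : T.Opens} (hV : V ≤ t ⁻¹ᵁ U) :
    Γ((Scheme.Modules.pullback g).obj N, U) →+ Γ((Scheme.Modules.pullback h).obj N, V) :=
  (((Scheme.Modules.pullback h).obj N).presheaf.map (homOfLE hV).op).hom.comp
    ((vMap N t e).app U).hom

theorem plMap_pullMap {T Z : Scheme.{u}} {g : Z ⟶ S} (t : T ⟶ Z) {h : T ⟶ S} (e : t ≫ g = h)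
    {W : S.Opens} {U : Z.Opens} {V : T.Opens} (hU : U ≤ g ⁻¹ᵁ W) (hV : V ≤ t ⁻¹ᵁ U)
    (hVW : V ≤ h ⁻¹ᵁ W) (s : Γ(N, W)) :
    plMap N t e hV (pullMap g N hU s) = pullMap h N hVW s := by
  show ((Scheme.Modules.pullback h).obj N).presheaf.map (homOfLE hV).op
    ((vMap N t e).app U (pullMap g N hU s)) = _
  rw [vMap_pullMap]
  exact (pullMap_res h N _ le_rfl hV hVW s).trans (by rw [restr_self])

theorem plMap_smul {T Z : Scheme.{u}} {g : Z ⟶ S} (t : T ⟶ Z) {h : T ⟶ S} (e : t ≫ g = h)
    {U : Z.Opens} {V : T.Opens} (hV : V ≤ t ⁻¹ᵁ U) (c : Γ(Z, U))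
    (y : Γ((Scheme.Modules.pullback g).obj N, U)) :
    plMap N t e hV (c • y) = t.appLE U V hV c • plMap N t e hV y := by
  refine (congrArg _ (Scheme.Modules.Hom.app_smul (vMap N t e) c y)).trans ?_
  exact ((Scheme.Modules.pullback h).obj N).val.map_smul (homOfLE hV).op (t.app U c) _

/-- Compatibility of a family of sections. -/
def Compat {κ : Type u} (i : κ → ι) (U : ∀ k, (X (i k)).Opens)
    (y : ∀ k, Γ((Scheme.Modules.pullback (f (i k))).obj N, U k)) : Prop :=
  ∀ (k l : κ) (T : Scheme.{u}) (a : T ⟶ X (i k)) (b : T ⟶ X (i l)) (e : b ≫ f (i l) = a ≫ f (i k))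
    (V : T.Opens) (ha : V ≤ a ⁻¹ᵁ U k) (hb : V ≤ b ⁻¹ᵁ U l),
    plMap N a rfl ha (y k) = plMap N b e hb (y l)

variable [Coh.IsQCoh N]

set_option maxHeartbeats 800000 in
/-- Sections over an affine open are compatible families. -/
theorem sections_family [∀ i, Flat (f i)] {W : S.Opens} (hW : IsAffineOpen W) {κ : Type u} [Fintype κ]
    (i : κ → ι) (U : ∀ k, (X (i k)).Opens) (hU : ∀ k, IsAffineOpen (U k))
    (hle : ∀ k, U k ≤ f (i k) ⁻¹ᵁ W) (hcov : ∀ s ∈ W, ∃ k, ∃ x ∈ U k, f (i k) x = s) :
    (∀ n n' : Γ(N, W), (∀ k, pullMap (f (i k)) N (hle k) n = pullMap (f (i k)) N (hle k) n') → n = n') ∧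
      ∀ y, Compat f N i U y → ∃ n : Γ(N, W), ∀ k, pullMap (f (i k)) N (hle k) n = y k := by
  let A := Γ(S, W)
  let R : κ → Type u := fun k => Γ(X (i k), U k)
  letI : ∀ k, Algebra A (R k) := fun k => ((f (i k)).appLE W (U k) (hle k)).hom.toAlgebra
  haveI : ∀ k, Module.Flat A (R k) := fun k => (f (i k)).flat_appLE hW (hU k) (hle k)
  haveI : Module.FaithfullyFlat A (∀ k, R k) := by
    refine faithfullyFlat_pi_of_surjective R fun p => ?_
    obtain ⟨k, x, hx, he⟩ := hcov (hW.fromSpec p) (hW.range_fromSpec.le ⟨p, rfl⟩)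
    refine ⟨k, (hU k).primeIdealOf ⟨x, hx⟩, hW.fromSpec.isOpenEmbedding.injective ?_⟩
    have h := IsAffineOpen.comap_primeIdealOf_appLE W hW (U k) (hU k) (hle k) hx
    show hW.fromSpec (PrimeSpectrum.comap ((f (i k)).appLE W (U k) (hle k)).hom
      ((hU k).primeIdealOf ⟨x, hx⟩)) = hW.fromSpec p
    rw [h, hW.fromSpec_primeIdealOf]
    exact he
  let Nk : κ → Type u := fun k => Γ((Scheme.Modules.pullback (f (i k))).obj N, U k)
  letI : ∀ k, Module (R k) (Nk k) := fun k =>
    inferInstanceAs (Module Γ(X (i k), U k) Γ((Scheme.Modules.pullback (f (i k))).obj N, U k))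
  letI : ∀ k, Module A (Nk k) := fun k => Module.compHom (Nk k) ((f (i k)).appLE W (U k) (hle k)).hom
  haveI : ∀ k, IsScalarTower A (R k) (Nk k) := fun k => .of_algebraMap_smul fun _ _ => rfl
  let P := fun k l => pullback (f (i k)) (f (i l))
  let V : ∀ k l, (P k l).Opens := fun k l =>
    pullback.fst (f (i k)) (f (i l)) ⁻¹ᵁ U k ⊓ pullback.snd (f (i k)) (f (i l)) ⁻¹ᵁ U l
  let h : ∀ k l, P k l ⟶ S := fun k l => pullback.fst (f (i k)) (f (i l)) ≫ f (i k)
  have hV : ∀ k l, V k l ≤ h k l ⁻¹ᵁ W := fun k l =>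
    inf_le_left.trans ((pullback.fst (f (i k)) (f (i l))).preimage_mono (hle k))
  let Q : κ → κ → Type u := fun k l => Γ((Scheme.Modules.pullback (h k l)).obj N, V k l)
  letI : ∀ k l, Module Γ(P k l, V k l) (Q k l) := fun k l =>
    inferInstanceAs (Module Γ(P k l, V k l) Γ((Scheme.Modules.pullback (h k l)).obj N, V k l))
  letI : ∀ k l, Module A (Q k l) := fun k l => Module.compHom (Q k l) ((h k l).appLE W (V k l) (hV k l)).hom
  have hpo := fun k l => isPushout_appLE (IsPullback.of_hasPullback (f (i k)) (f (i l))) hW (hU k) (hU l)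
    (hle k) (hle l)
  have hh : ∀ k l (a : A), ((h k l).appLE W (V k l) (hV k l)) a =
      (pullback.fst (f (i k)) (f (i l))).appLE (U k) (V k l) inf_le_left
        ((f (i k)).appLE W (U k) (hle k) a) := fun k l a => by
    show _ = ((f (i k)).appLE W (U k) (hle k) ≫ (pullback.fst (f (i k)) (f (i l))).appLE (U k) (V k l) inf_le_left) a
    rw [Scheme.Hom.appLE_comp_appLE]
  have hh' : ∀ k l (a : A), ((h k l).appLE W (V k l) (hV k l)) a =
      (pullback.snd (f (i k)) (f (i l))).appLE (U l) (V k l) inf_le_right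
        ((f (i l)).appLE W (U l) (hle l) a) := fun k l a => by
    show _ = ((f (i l)).appLE W (U l) (hle l) ≫ (pullback.snd (f (i k)) (f (i l))).appLE (U l) (V k l) inf_le_right) a
    rw [Scheme.Hom.appLE_comp_appLE]
    simp only [h, pullback.condition]
    rfl
  have hμex : ∀ k l, ∃ μ : R k ⊗[A] R l →+* Γ(P k l, V k l), Function.Bijective μ ∧
      (∀ c, μ (c ⊗ₜ 1) = (pullback.fst (f (i k)) (f (i l))).appLE (U k) (V k l) inf_le_left c) ∧
      ∀ c, μ (1 ⊗ₜ c) = (pullback.snd (f (i k)) (f (i l))).appLE (U l) (V k l) inf_le_right c := by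
    intro k l
    letI : Algebra A Γ(P k l, V k l) := ((h k l).appLE W (V k l) (hV k l)).hom.toAlgebra
    letI : Algebra Γ(X (i k), U k) Γ(P k l, V k l) :=
      ((pullback.fst (f (i k)) (f (i l))).appLE (U k) (V k l) inf_le_left).hom.toAlgebra
    let la : R k →ₐ[A] Γ(P k l, V k l) :=
      { ((pullback.fst (f (i k)) (f (i l))).appLE (U k) (V k l) inf_le_left).hom with
        commutes' := fun a => (hh k l a).symm }
    let lb : R l →ₐ[A] Γ(P k l, V k l) :=
      { ((pullback.snd (f (i k)) (f (i l))).appLE (U l) (V k l) inf_le_right).hom with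
        commutes' := fun a => (hh' k l a).symm }
    refine ⟨(Algebra.TensorProduct.lift la lb fun _ _ => Commute.all _ _).toRingHom, ?_,
      fun c => by simp [la, lb]; rfl, fun c => by simp [la, lb]; rfl⟩
    letI : Algebra Γ(X (i l), U l) Γ(P k l, V k l) :=
      ((pullback.snd (f (i k)) (f (i l))).appLE (U l) (V k l) inf_le_right).hom.toAlgebra
    haveI : IsScalarTower A (R k) Γ(P k l, V k l) := .of_algebraMap_eq fun a => hh k l a
    haveI : IsScalarTower A (R l) Γ(P k l, V k l) := .of_algebraMap_eq fun a => hh' k l a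
    haveI : Algebra.IsPushout A (R l) (R k) Γ(P k l, V k l) := by
      convert (hpo k l).2 using 1
      all_goals first
        | rfl
        | exact Algebra.algebra_ext _ _ fun a => hh k l a
    refine bijective_of_isPushout (A := A) (B := R k) (C := R l) (D := Γ(P k l, V k l)) _
      (fun c => by simp [la, lb]; rfl) (fun c => by simp [la, lb]; rfl)
  choose μ hμ hμl hμr using hμex
  have hμA : ∀ k l (a : A) (q : Q k l), a • q = μ k l (algebraMap A (R k ⊗[A] R l) a) • q := fun k l a q => by
    show (h k l).appLE W (V k l) (hV k l) a • q = _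
    rw [Algebra.TensorProduct.algebraMap_apply, hμl, hh]
    rfl
  let L : ∀ k, Γ(N, W) →ₗ[A] Nk k := fun k => pullMapL (f (i k)) N (hle k)
  let LQ : ∀ k l, Γ(N, W) →ₗ[A] Q k l := fun k l => pullMapL (h k l) N (hV k l)
  have hL : ∀ k, IsBaseChange (R k) (L k) := fun k =>
    isBaseChange_pullMapL (f (i k)) N hW (hU k) (hle k)
  obtain ⟨hinj, hglue⟩ := exists_of_compatible (A := A) R Nk L hL (fun k l => Γ(P k l, V k l)) Q μ hμ hμA LQ
    (fun k l => by
      letI : Algebra A Γ(P k l, V k l) := ((h k l).appLE W (V k l) (hV k l)).hom.toAlgebra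
      haveI : IsScalarTower A Γ(P k l, V k l) (Q k l) := .of_algebraMap_smul fun _ _ => rfl
      refine injective_lift_of_isBaseChange (μ k l) (fun a => ?_) (hμ k l) (LQ k l)
        (isBaseChange_pullMapL (h k l) N hW (hpo k l).1 (hV k l)) _ fun _ _ => rfl
      rw [Algebra.TensorProduct.algebraMap_apply, hμl]
      exact (hh k l a).symm)
    (fun k l => plMap N (pullback.fst (f (i k)) (f (i l))) rfl inf_le_left)
    (fun k l => plMap N (pullback.snd (f (i k)) (f (i l))) pullback.condition.symm inf_le_right)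
    (fun k l c n => by
      rw [hμl]
      refine (plMap_smul N _ _ inf_le_left c _).trans (congrArg _ ?_)
      exact plMap_pullMap N _ _ (hle k) inf_le_left (hV k l) n)
    (fun k l c n => by
      rw [hμr]
      refine (plMap_smul N _ _ inf_le_right c _).trans (congrArg _ ?_)
      exact plMap_pullMap N _ _ (hle l) inf_le_right (hV k l) n)
  exact ⟨hinj, fun y hy => hglue y fun k l =>
    hy k l _ _ _ pullback.condition.symm (V k l) inf_le_left inf_le_right⟩

end scheme

end Groth.Agent.FpqcQCoh
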