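import Groth.Agent.FpqcQCoh.Algebra
import Groth.Agent.PureDescent

/-!
# Universally injective maps and split Čech systems of modules

If a map of modules becomes von Neumann regular after tensoring with a universally injective algebra,
tensoring preserves its kernel.
-/

set_option autoImplicit false

open TensorProduct

namespace Groth.Agent.FpqcQCoh

universe u

variable {A B : Type u} [CommRing A] [CommRing B] [Algebra A B]

/-- Tensoring preserves kernels of maps which become regular after tensoring. -/
def PreservesSplitKernels (A B : Type u) [CommRing A] [CommRing B] [Algebra A B] : Prop :=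
  ∀ (K N N' : Type u) [AddCommGroup K] [Module A K] [AddCommGroup N] [Module A N] [AddCommGroup N'] [Module A N']
    (ι : K →ₗ[A] N) (δ : N →ₗ[A] N') (h : B ⊗[A] N' →ₗ[A] B ⊗[A] N),
    Function.Injective ι → Function.Exact ι δ → δ.lTensor B ∘ₗ h ∘ₗ δ.lTensor B = δ.lTensor B →
      Function.Injective (ι.lTensor B) ∧ Function.Exact (ι.lTensor B) (δ.lTensor B)

theorem preservesSplitKernels_of_flat [Module.Flat A B] : PreservesSplitKernels A B :=
  fun _ _ _ _ _ _ _ _ _ _ _ _ hι hex _ =>
    ⟨Module.Flat.lTensor_preserves_injective_linearMap _ hι, Module.Flat.lTensor_exact B hex⟩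

variable {M N : Type u} [AddCommGroup M] [Module A M] [AddCommGroup N] [Module A N]

/-- Characters of `M` extended to characters of `B ⊗ M`. -/
noncomputable def charLift (s : CharacterModule A →ₗ[A] CharacterModule B) (M : Type u) [AddCommGroup M]
    [Module A M] : CharacterModule M →ₗ[A] CharacterModule (B ⊗[A] M) :=
  CharacterModule.dual (TensorProduct.comm A B M).toLinearMap ∘ₗ CharacterModule.uncurry ∘ₗ
    LinearMap.llcomp A M (CharacterModule A) (CharacterModule B) s ∘ₗ CharacterModule.curry ∘ₗ
      CharacterModule.dual (TensorProduct.rid A M).toLinearMap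

theorem charLift_tmul (s : CharacterModule A →ₗ[A] CharacterModule B) (c : CharacterModule M) (b : B) (m : M) :
    charLift s M c (b ⊗ₜ m) = s (CharacterModule.curry (CharacterModule.dual (TensorProduct.rid A M).toLinearMap c) m) b :=
  rfl

theorem charLift_natural (s : CharacterModule A →ₗ[A] CharacterModule B) (δ : M →ₗ[A] N) (c : CharacterModule N) :
    charLift s M (CharacterModule.dual δ c) = CharacterModule.dual (δ.lTensor B) (charLift s N c) := by
  refine DFunLike.ext _ _ fun z => ?_
  induction z using TensorProduct.induction_on with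
  | zero => exact (map_zero _).trans (map_zero _).symm
  | add y z hy hz => simp only [map_add, hy, hz]
  | tmul b m =>
    show charLift s M (CharacterModule.dual δ c) (b ⊗ₜ m) = charLift s N c (b ⊗ₜ δ m)
    rw [charLift_tmul, charLift_tmul]
    congr 2
    refine DFunLike.ext _ _ fun r => ?_
    show c (δ (TensorProduct.rid A M (m ⊗ₜ r))) = c (TensorProduct.rid A N (δ m ⊗ₜ r))
    rw [TensorProduct.rid_tmul, TensorProduct.rid_tmul, map_smul]

theorem charLift_one {s : CharacterModule A →ₗ[A] CharacterModule B}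
    (hs : ∀ c r, s c (algebraMap A B r) = c r) (c : CharacterModule M) (m : M) :
    charLift s M c ((1 : B) ⊗ₜ m) = c m := by
  rw [charLift_tmul, ← map_one (algebraMap A B), hs]
  show c (TensorProduct.rid A M (m ⊗ₜ (1 : A))) = c m
  rw [TensorProduct.rid_tmul, one_smul]

theorem eq_zero_of_forall_hom {z : B ⊗[A] M}
    (h : ∀ f : B →ₗ[A] CharacterModule M, CharacterModule.uncurry f z = 0) : z = 0 :=
  CharacterModule.eq_zero_of_character_apply fun c => by
    have := h (CharacterModule.curry c)
    rwa [show CharacterModule.uncurry (CharacterModule.curry c) = c from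
      CharacterModule.homEquiv.apply_symm_apply c] at this

theorem uncurry_lTensor (g : M →ₗ[A] N) (f : B →ₗ[A] CharacterModule N) (z : B ⊗[A] M) :
    CharacterModule.uncurry f (g.lTensor B z) = CharacterModule.uncurry (CharacterModule.dual g ∘ₗ f) z := by
  induction z using TensorProduct.induction_on with
  | zero => exact (map_zero _).trans (map_zero _).symm
  | add y z hy hz => simp only [map_add, hy, hz]
  | tmul b m => rfl

theorem preservesSplitKernels_of_univInjective (hB : Pi1.UnivInjective A B) : PreservesSplitKernels A B := by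
  intro K N N' _ _ _ _ _ _ ι δ h hι hex hreg
  obtain ⟨s, hs⟩ := PureDescent.exists_section hB
  let one' : ∀ (M : Type u) [AddCommGroup M] [Module A M], M →ₗ[A] B ⊗[A] M := fun M _ _ =>
    TensorProduct.mk A B M 1
  let t : CharacterModule N →ₗ[A] CharacterModule N' :=
    CharacterModule.dual (one' N') ∘ₗ CharacterModule.dual h ∘ₗ charLift s N
  have hp : ∀ (c : CharacterModule (B ⊗[A] N')), CharacterModule.dual δ (CharacterModule.dual (one' N') c) =
      CharacterModule.dual (one' N) (CharacterModule.dual (δ.lTensor B) c) := fun c => rfl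
  have ht : ∀ c, CharacterModule.dual δ (t (CharacterModule.dual δ c)) = CharacterModule.dual δ c := fun c => by
    show CharacterModule.dual δ (CharacterModule.dual (one' N')
      (CharacterModule.dual h (charLift s N (CharacterModule.dual δ c)))) = _
    rw [hp, charLift_natural]
    refine DFunLike.ext _ _ fun n => ?_
    show charLift s N' c (δ.lTensor B (h (δ.lTensor B ((1 : B) ⊗ₜ n)))) = c (δ n)
    rw [show δ.lTensor B (h (δ.lTensor B ((1 : B) ⊗ₜ n))) = δ.lTensor B ((1 : B) ⊗ₜ n) from
      LinearMap.congr_fun hreg _]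
    exact charLift_one hs c (δ n)
  let e : CharacterModule N →ₗ[A] CharacterModule N := LinearMap.id - CharacterModule.dual δ ∘ₗ t
  have hker : ∀ c, CharacterModule.dual ι c = 0 → e c = 0 := fun c hc => by
    have hle : LinearMap.range ι ≤ LinearMap.ker δ := fun x ⟨k, hk⟩ => hk ▸ hex.apply_apply_eq_zero k
    let q : (N ⧸ LinearMap.range ι) →ₗ[A] N' := (LinearMap.range ι).liftQ δ hle
    have hq : Function.Injective q := by
      refine LinearMap.ker_eq_bot.1 ?_
      rw [Submodule.ker_liftQ, LinearMap.exact_iff.1 hex, Submodule.mkQ_map_self]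
    let c' : CharacterModule (N ⧸ LinearMap.range ι) :=
      QuotientAddGroup.lift (LinearMap.range ι).toAddSubgroup c fun x hx => by
        obtain ⟨k, rfl⟩ := hx
        exact DFunLike.congr_fun hc k
    obtain ⟨d, hd⟩ := CharacterModule.dual_surjective_of_injective q hq c'
    have hcd : CharacterModule.dual δ d = c := DFunLike.ext _ _ fun n =>
      DFunLike.congr_fun hd (Submodule.Quotient.mk n)
    show c - CharacterModule.dual δ (t c) = 0
    rw [← hcd, ht, sub_self]
  have he : ∀ c, CharacterModule.dual ι (e c) = CharacterModule.dual ι c := fun c => by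
    refine DFunLike.ext _ _ fun k => ?_
    show c (ι k) - (t c) (δ (ι k)) = c (ι k)
    rw [hex.apply_apply_eq_zero, map_zero, sub_zero]
  refine ⟨(injective_iff_map_eq_zero _).2 fun z hz => eq_zero_of_forall_hom fun f => ?_, fun z => ⟨fun hz => ?_, ?_⟩⟩
  · let dι : CharacterModule N →ₗ[A] CharacterModule K := CharacterModule.dual ι
    let σ : CharacterModule K →ₗ[A] CharacterModule N :=
      ((LinearMap.ker dι).liftQ e fun c hc => hker c hc) ∘ₗ
        (dι.quotKerEquivOfSurjective (CharacterModule.dual_surjective_of_injective ι hι)).symm.toLinearMap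
    have hσ : ∀ c, dι (σ c) = c := fun c => by
      obtain ⟨n, rfl⟩ := CharacterModule.dual_surjective_of_injective ι hι c
      show dι (((LinearMap.ker dι).liftQ e fun c hc => hker c hc)
        ((dι.quotKerEquivOfSurjective _).symm (dι n))) = dι n
      rw [show (dι.quotKerEquivOfSurjective (CharacterModule.dual_surjective_of_injective ι hι)).symm (dι n) =
        Submodule.Quotient.mk n from (LinearEquiv.symm_apply_eq _).2 rfl]
      exact he n
    have hf : dι ∘ₗ σ ∘ₗ f = f := LinearMap.ext fun b => hσ (f b)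
    rw [← hf, ← uncurry_lTensor, hz, map_zero]
  · by_contra hne
    let R' := LinearMap.range (ι.lTensor B)
    have hne' : R'.mkQ z ≠ 0 := fun h => hne ((Submodule.Quotient.mk_eq_zero _).1 h)
    obtain ⟨c, hc⟩ := CharacterModule.exists_character_apply_ne_zero_of_ne_zero hne'
    refine hc ?_
    let φ : CharacterModule (B ⊗[A] N) := CharacterModule.dual R'.mkQ c
    let f : B →ₗ[A] CharacterModule N := CharacterModule.curry φ
    have hf0 : ∀ b, e (f b) = 0 := fun b => hker _ (DFunLike.ext _ _ fun k => by
      show c (R'.mkQ ((ι.lTensor B) (b ⊗ₜ k))) = 0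
      rw [Submodule.mkQ_apply, (Submodule.Quotient.mk_eq_zero R').2 (LinearMap.mem_range_self _ _), map_zero])
    have hf : f = CharacterModule.dual δ ∘ₗ (t ∘ₗ f) := LinearMap.ext fun b => sub_eq_zero.1 (hf0 b)
    show φ z = 0
    rw [← show CharacterModule.uncurry f = φ from CharacterModule.homEquiv.apply_symm_apply φ, hf,
      ← uncurry_lTensor, hz, map_zero]
  · rintro ⟨w, rfl⟩
    rw [← LinearMap.lTensor_comp_apply, show δ.comp ι = 0 from LinearMap.ext hex.apply_apply_eq_zero,
      LinearMap.lTensor_zero, LinearMap.zero_apply]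

/-- The descended module generates freely, for a split system. -/
theorem bijective_mulSub_of_split {N N' N'' : Type u} [AddCommGroup N] [Module A N] [Module B N]
    [IsScalarTower A B N] [AddCommGroup N'] [Module A N'] [AddCommGroup N''] [Module A N'']
    (hA : PreservesSplitKernels A B) (a r : N →ₗ[A] N') (c02 c12 : N' →ₗ[A] N'')
    (τ : N'' →ₗ[A] N') (hτ0 : ∀ x, τ (c02 x) = x) (hτ1 : ∀ x, c02 (τ (c12 x)) = c12 (τ (c12 x)))
    (Φ : B ⊗[A] N →ₗ[A] N') (Ψ : B ⊗[A] N' →ₗ[A] N'') (hΦ : Function.Bijective Φ) (hΨ : Function.Bijective Ψ)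
    (hr : Function.Injective r)
    (hΦr : ∀ (x : B) (n : N), a n = r n → Φ (x ⊗ₜ[A] n) = r (x • n))
    (h0 : ∀ (x : B) (n : N), Ψ (x ⊗ₜ[A] a n) = c02 (Φ (x ⊗ₜ[A] n)))
    (h1 : ∀ (x : B) (n : N), Ψ (x ⊗ₜ[A] r n) = c12 (Φ (x ⊗ₜ[A] n)))
    (h2 : ∀ n : N, c02 (r n) = c12 (r n)) :
    Function.Bijective (mulSub (B := B) (LinearMap.eqLocus a r)) := by
  let K := LinearMap.eqLocus a r
  let ι : B ⊗[A] K →ₗ[A] B ⊗[A] N := K.subtype.lTensor B
  have hc : ∀ z, Ψ ((a - r).lTensor B z) = (c02 - c12) (Φ z) := fun z => by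
    induction z using TensorProduct.induction_on with
    | zero => simp
    | add y z hy hz => simp only [map_add, hy, hz]
    | tmul x k => rw [LinearMap.lTensor_tmul, LinearMap.sub_apply, tmul_sub, map_sub, h0, h1, LinearMap.sub_apply]
  let h : B ⊗[A] N' →ₗ[A] B ⊗[A] N := (LinearEquiv.ofBijective Φ hΦ).symm.toLinearMap ∘ₗ τ ∘ₗ Ψ
  have hreg : (a - r).lTensor B ∘ₗ h ∘ₗ (a - r).lTensor B = (a - r).lTensor B := by
    refine LinearMap.ext fun z => hΨ.1 ?_
    simp only [LinearMap.comp_apply, hc, h, LinearEquiv.coe_coe]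
    rw [show Φ ((LinearEquiv.ofBijective Φ hΦ).symm (τ ((c02 - c12) (Φ z)))) = τ ((c02 - c12) (Φ z)) from
      (LinearEquiv.ofBijective Φ hΦ).apply_symm_apply _]
    simp only [LinearMap.sub_apply, map_sub, hτ0, hτ1]
    abel
  obtain ⟨hι, hex⟩ := hA K N N' K.subtype (a - r) h K.injective_subtype (fun x => by
    rw [LinearMap.sub_apply, sub_eq_zero]
    exact ⟨fun h => ⟨⟨x, h⟩, rfl⟩, fun ⟨k, hk⟩ => hk ▸ k.2⟩) hreg
  have key : ∀ z, Φ (ι z) = r (mulSub K z) := fun z => by
    induction z using TensorProduct.induction_on with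
    | zero => simp
    | add y z hy hz => simp only [map_add, hy, hz]
    | tmul x k => rw [mulSub_tmul]; exact hΦr x k.1 k.2
  refine ⟨fun z w e => hι (hΦ.1 (by rw [key, key, e])), fun n => ?_⟩
  obtain ⟨z, hz⟩ := hΦ.2 (r n)
  obtain ⟨w, rfl⟩ := (hex z).1 (hΨ.1 (by rw [hc, hz, LinearMap.sub_apply, h2, sub_self, map_zero]))
  exact ⟨w, hr (by rw [← key, hz])⟩

end Groth.Agent.FpqcQCoh
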