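import Groth.Prelude.Def_Desc
import Groth.Agent.FpqcQCoh.PureAlgebra
import Mathlib.RingTheory.IsTensorProduct
import Mathlib.RingTheory.Flat.FaithfullyFlat.Basic

/-!
# Effectiveness of descent data for modules along a faithfully flat ring map
-/

set_option autoImplicit false
set_option backward.isDefEq.respectTransparency false
set_option backward.isDefEq.respectTransparency.types false
set_option linter.style.haveILetI false

universe u

open CategoryTheory Opposite TensorProduct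
open scoped ChangeOfRings

noncomputable section

namespace Groth.Agent.FpqcQCoh.RingDD

/-- Extension of scalars along a map in `CommRingCatᵒᵖ`. -/
abbrev ext {A B : CommRingCat.{u}ᵒᵖ} (f : B ⟶ A) (M : ModuleCat.{u} A.unop) : ModuleCat.{u} B.unop :=
  (ModuleCat.extendScalars f.unop.hom).obj M

/-- The element `1 ⊗ m`. -/
def one {A B : CommRingCat.{u}ᵒᵖ} (f : B ⟶ A) (M : ModuleCat.{u} A.unop) (m : M) : ext f M :=
  (1 : B.unop) ⊗ₜ[A.unop, f.unop.hom] m

theorem one_smul' {A B : CommRingCat.{u}ᵒᵖ} (f : B ⟶ A) (M : ModuleCat.{u} A.unop) (x : A.unop) (m : M) :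
    one f M (x • m) = f.unop x • one f M m := by
  letI := f.unop.hom.toAlgebra
  letI : Module A.unop B.unop := Algebra.toModule
  show (1 : B.unop) ⊗ₜ[A.unop, f.unop.hom] (x • m) = (f.unop x * 1) ⊗ₜ[A.unop, f.unop.hom] m
  exact (TensorProduct.smul_tmul x (1 : B.unop) m).symm

theorem one_add {A B : CommRingCat.{u}ᵒᵖ} (f : B ⟶ A) (M : ModuleCat.{u} A.unop) (m m' : M) :
    one f M (m + m') = one f M m + one f M m' := TensorProduct.tmul_add _ _ _

theorem ext_hom {A B : CommRingCat.{u}ᵒᵖ} (f : B ⟶ A) (M : ModuleCat.{u} A.unop) {Q : ModuleCat.{u} B.unop}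
    {φ ψ : ext f M ⟶ Q} (h : ∀ m, φ (one f M m) = ψ (one f M m)) : φ = ψ :=
  ModuleCat.ExtendScalars.hom_ext h

/-- The comparison of an iterated extension of scalars. -/
def cmp {A B C : CommRingCat.{u}ᵒᵖ} (f : B ⟶ A) (g : C ⟶ B) (h : C ⟶ A) (e : g ≫ f = h)
    (M : ModuleCat.{u} A.unop) : ext h M ⟶ ext g (ext f M) :=
  (Desc.ringModPF.{u}.mapComp' f.op.toLoc g.op.toLoc h.op.toLoc (by subst e; rfl)).hom.toNatTrans.app M

/-- Its inverse. -/
def cmpInv {A B C : CommRingCat.{u}ᵒᵖ} (f : B ⟶ A) (g : C ⟶ B) (h : C ⟶ A) (e : g ≫ f = h)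
    (M : ModuleCat.{u} A.unop) : ext g (ext f M) ⟶ ext h M :=
  (Desc.ringModPF.{u}.mapComp' f.op.toLoc g.op.toLoc h.op.toLoc (by subst e; rfl)).inv.toNatTrans.app M

theorem cmp_eq {A B C : CommRingCat.{u}ᵒᵖ} (f : B ⟶ A) (g : C ⟶ B) (M : ModuleCat.{u} A.unop) :
    cmp f g (g ≫ f) rfl M = (ModuleCat.extendScalarsComp f.unop.hom g.unop.hom).hom.app M := by
  have h := Pseudofunctor.mapComp'_eq_mapComp Desc.ringModPF.{u} f.op.toLoc g.op.toLoc
  refine (congrArg (fun (i : Desc.ringModPF.{u}.map (f.op.toLoc ≫ g.op.toLoc) ≅ _) =>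
    i.hom.toNatTrans.app M) h).trans ?_
  simp [Desc.ringModPF]
  rfl

theorem cmp_one {A B C : CommRingCat.{u}ᵒᵖ} (f : B ⟶ A) (g : C ⟶ B) (h : C ⟶ A) (e : g ≫ f = h)
    (M : ModuleCat.{u} A.unop) (m : M) : cmp f g h e M (one h M m) = one g (ext f M) (one f M m) := by
  subst e
  rw [cmp_eq]
  exact ModuleCat.extendScalarsComp_hom_app_one_tmul f.unop.hom g.unop.hom _ m

theorem cmp_cmpInv {A B C : CommRingCat.{u}ᵒᵖ} (f : B ⟶ A) (g : C ⟶ B) (h : C ⟶ A) (e : g ≫ f = h)
    (M : ModuleCat.{u} A.unop) : cmpInv f g h e M ≫ cmp f g h e M = 𝟙 _ :=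
  congrArg (fun t => t.toNatTrans.app M)
    (Desc.ringModPF.{u}.mapComp' f.op.toLoc g.op.toLoc h.op.toLoc (by subst e; rfl)).inv_hom_id

theorem cmpInv_cmp {A B C : CommRingCat.{u}ᵒᵖ} (f : B ⟶ A) (g : C ⟶ B) (h : C ⟶ A) (e : g ≫ f = h)
    (M : ModuleCat.{u} A.unop) : cmp f g h e M ≫ cmpInv f g h e M = 𝟙 _ :=
  congrArg (fun t => t.toNatTrans.app M)
    (Desc.ringModPF.{u}.mapComp' f.op.toLoc g.op.toLoc h.op.toLoc (by subst e; rfl)).hom_inv_id

theorem cmpInv_one {A B C : CommRingCat.{u}ᵒᵖ} (f : B ⟶ A) (g : C ⟶ B) (h : C ⟶ A) (e : g ≫ f = h)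
    (M : ModuleCat.{u} A.unop) (m : M) : cmpInv f g h e M (one g (ext f M) (one f M m)) = one h M m := by
  rw [← cmp_one f g h e M m, ← ModuleCat.comp_apply, cmpInv_cmp]
  rfl

theorem bijective_cmpInv {A B C : CommRingCat.{u}ᵒᵖ} (f : B ⟶ A) (g : C ⟶ B) (h : C ⟶ A) (e : g ≫ f = h)
    (M : ModuleCat.{u} A.unop) : Function.Bijective (cmpInv f g h e M) :=
  Function.bijective_iff_has_inverse.2 ⟨cmp f g h e M,
    fun x => (ModuleCat.comp_apply _ _ x).symm.trans (by rw [cmp_cmpInv]; rfl),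
    fun x => (ModuleCat.comp_apply _ _ x).symm.trans (by rw [cmpInv_cmp]; rfl)⟩

/-- Extension of scalars of a morphism. -/
abbrev extMap {A B : CommRingCat.{u}ᵒᵖ} (f : B ⟶ A) {M M' : ModuleCat.{u} A.unop} (φ : M ⟶ M') :
    ext f M ⟶ ext f M' := (ModuleCat.extendScalars f.unop.hom).map φ

theorem extMap_one {A B : CommRingCat.{u}ᵒᵖ} (f : B ⟶ A) {M M' : ModuleCat.{u} A.unop} (φ : M ⟶ M') (m : M) :
    extMap f φ (one f M m) = one f M' (φ m) := ModuleCat.ExtendScalars.map_tmul _ φ (1 : B.unop) m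

theorem smul_one_tmul' {A B : CommRingCat.{u}ᵒᵖ} (f : B ⟶ A) (M : ModuleCat.{u} A.unop) (c : B.unop) (m : M) :
    c • one f M m = c ⊗ₜ[A.unop, f.unop.hom] m := by
  show (c * 1) ⊗ₜ[A.unop, f.unop.hom] m = _
  rw [mul_one]

theorem exists_ext_equiv {B D : CommRingCat.{u}} [Algebra B D] (N : ModuleCat.{u} B) :
    ∃ j : D ⊗[B] N →+ ext (A := op B) (B := op D) (CommRingCat.ofHom (algebraMap B D)).op N,
      Function.Bijective j ∧ ∀ (c : D) (n : N), j (c ⊗ₜ n) = c • one _ N n := by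
  let f : op D ⟶ op B := (CommRingCat.ofHom (algebraMap B D)).op
  let E := ext f N
  let j : D ⊗[B] N →+ E := TensorProduct.liftAddHom
    { toFun := fun c =>
        { toFun := fun n => c • one f N n
          map_zero' := by rw [show one f N 0 = 0 from TensorProduct.tmul_zero _ _, smul_zero]
          map_add' := fun n n' => by rw [one_add, smul_add] }
      map_zero' := AddMonoidHom.ext fun n => zero_smul _ _
      map_add' := fun c c' => AddMonoidHom.ext fun n => add_smul _ _ _ }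
    (fun b c n => by
      show (b • c : D) • one f N n = c • one f N (b • n)
      rw [one_smul', Algebra.smul_def, smul_smul]
      exact congrArg (· • one f N n) (mul_comm _ _))
  let k : E ⟶ ModuleCat.of D (D ⊗[B] N) :=
    ((ModuleCat.extendRestrictScalarsAdj f.unop.hom).homEquiv N _).symm
      (ModuleCat.ofHom (Y := (ModuleCat.restrictScalars f.unop.hom).obj (ModuleCat.of D (D ⊗[B] N)))
        { toFun := fun n => (1 : D) ⊗ₜ[B] n
          map_add' := fun n n' => TensorProduct.tmul_add _ _ _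
          map_smul' := fun b n => by
            show (1 : D) ⊗ₜ[B] (b • n) = algebraMap B D b • ((1 : D) ⊗ₜ[B] n)
            rw [TensorProduct.tmul_smul, algebraMap_smul] })
  have hk : ∀ n, k (one f N n) = (1 : D) ⊗ₜ[B] n := fun n => by
    show k ((1 : D) ⊗ₜ[B, f.unop.hom] n) = _
    rw [← ModuleCat.extendRestrictScalarsAdj_homEquiv_apply, Equiv.apply_symm_apply]
    rfl
  have hkj : ∀ z, k (j z) = z := fun z => by
    induction z using TensorProduct.induction_on with
    | zero => simp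
    | add y z hy hz => simp only [map_add, hy, hz]
    | tmul c n =>
      show k (c • one f N n) = _
      rw [map_smul, hk]
      show c • ((1 : D) ⊗ₜ[B] n) = _
      rw [TensorProduct.smul_tmul', smul_eq_mul, mul_one]
  refine ⟨j, Function.bijective_iff_has_inverse.2 ⟨k, hkj, fun z => ?_⟩, fun c n => rfl⟩
  induction z using TensorProduct.induction_on with
  | zero => simp
  | add y z hy hz => rw [map_add, map_add, hy, hz]
  | tmul c n =>
    show j (k (c ⊗ₜ[B, f.unop.hom] n)) = c ⊗ₜ[B, f.unop.hom] n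
    let c' : D := c
    rw [← smul_one_tmul' f N c n, map_smul, hk]
    show j (c' • ((1 : D) ⊗ₜ[B] n)) = c' • one f N n
    rw [TensorProduct.smul_tmul', smul_eq_mul, mul_one]
    rfl

theorem bijective_of_lift {A C : Type u} {B : CommRingCat.{u}} [CommRing A] [CommRing C]
    [Algebra A B] [Algebra A C]
    (N : ModuleCat.{u} B) [Module A N] [IsScalarTower A B N]
    {Q : Type u} [AddCommGroup Q] [Module A Q]
    (i3 : ext (A := op B) (B := op (CommRingCat.of (B ⊗[A] C)))
        (CommRingCat.ofHom (Algebra.TensorProduct.includeLeftRingHom : B →+* B ⊗[A] C)).op N →+ Q)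
    (h3 : Function.Bijective i3)
    (Φ : C ⊗[A] N →ₗ[A] Q) (hΦ : ∀ x (m : N), Φ (x ⊗ₜ m) = i3 ((show (CommRingCat.of (B ⊗[A] C) : Type u) from
      (1 : B) ⊗ₜ[A] x) • one _ N m)) :
    Function.Bijective Φ := by
  letI : Algebra C (B ⊗[A] C) := Algebra.TensorProduct.rightAlgebra
  haveI : Algebra.IsPushout A C B (B ⊗[A] C) := Algebra.IsPushout.symm inferInstance
  obtain ⟨j, hj, hjt⟩ := exists_ext_equiv (B := B) (D := CommRingCat.of (B ⊗[A] C)) N
  let i1 := (Algebra.IsPushout.cancelBaseChange A C B (B ⊗[A] C) N).toAddEquiv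
  have heq : ∀ z, Φ z = i3 (j (i1.symm z)) := fun z => by
    induction z using TensorProduct.induction_on with
    | zero => simp
    | add y z hy hz => simp only [map_add, hy, hz]
    | tmul x m =>
      rw [hΦ, show i1.symm (x ⊗ₜ m) = algebraMap C (B ⊗[A] C) x ⊗ₜ m from
        Algebra.IsPushout.cancelBaseChange_symm_tmul A C B (B ⊗[A] C) N x m]
      exact congrArg i3 (hjt _ m).symm
  have : ⇑Φ = i3 ∘ j ∘ i1.symm := funext heq
  rw [this]
  exact h3.comp (hj.comp i1.symm.bijective)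

theorem one_id_injective {A : CommRingCat.{u}ᵒᵖ} (M : ModuleCat.{u} A.unop) :
    Function.Injective (one (𝟙 A) M) := fun m m' h => by
  have := congrArg (fun x => (ModuleCat.extendScalarsId A.unop).hom.app M x) h
  exact ((ModuleCat.extendScalarsId_hom_app_one_tmul M m).symm.trans this).trans
    (ModuleCat.extendScalarsId_hom_app_one_tmul M m')

variable {R S : Type u} [CommRing R] [CommRing S] [Algebra R S]
  (D : Desc.ringModPF.{u}.DescentData (fun _ : PUnit.{u + 1} => (CommRingCat.ofHom (algebraMap R S)).op))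

/-- The module underlying a descent datum. -/
abbrev obj : ModuleCat.{u} (CommRingCat.of S) := D.obj PUnit.unit

/-- The base. -/
abbrev f₀ : op (CommRingCat.of S) ⟶ op (CommRingCat.of R) := (CommRingCat.ofHom (algebraMap R S)).op

/-- The gluing morphisms. -/
def H {Y : CommRingCat.{u}ᵒᵖ} (a b : Y ⟶ op (CommRingCat.of S)) (e : b ≫ f₀ = a ≫ f₀ (R := R)) :
    ext a (obj D) ⟶ ext b (obj D) :=
  D.hom (a ≫ f₀) (i₁ := PUnit.unit) (i₂ := PUnit.unit) a b rfl e

theorem H_self {Y : CommRingCat.{u}ᵒᵖ} (a : Y ⟶ op (CommRingCat.of S)) :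
    H D a a rfl = 𝟙 _ := D.hom_self _ _ rfl

theorem H_comp {Y : CommRingCat.{u}ᵒᵖ} (a b c : Y ⟶ op (CommRingCat.of S))
    (e : b ≫ f₀ = a ≫ f₀ (R := R)) (e' : c ≫ f₀ = b ≫ f₀ (R := R)) :
    H D a b e ≫ H D b c e' = H D a c (e'.trans e) := by
  have h := D.hom_comp (a ≫ f₀) (i₁ := PUnit.unit) (i₂ := PUnit.unit) (i₃ := PUnit.unit) a b c rfl e (e'.trans e)
  refine Eq.trans ?_ h
  simp only [H, e]

theorem bijective_H {Y : CommRingCat.{u}ᵒᵖ} (a b : Y ⟶ op (CommRingCat.of S))
    (e : b ≫ f₀ = a ≫ f₀ (R := R)) : Function.Bijective (H D a b e) := by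
  refine Function.bijective_iff_has_inverse.2 ⟨H D b a e.symm, fun x => ?_, fun x => ?_⟩
  · rw [← ModuleCat.comp_apply, H_comp, H_self]; rfl
  · rw [← ModuleCat.comp_apply, H_comp, H_self]; rfl

/-- Pullback of sections of the datum. -/
def κ {Y Y' : CommRingCat.{u}ᵒᵖ} (b : Y ⟶ op (CommRingCat.of S)) (g : Y' ⟶ Y)
    (b' : Y' ⟶ op (CommRingCat.of S)) (hb : g ≫ b = b') (x : ext b (obj D)) : ext b' (obj D) :=
  cmpInv b g b' hb (obj D) (one g (ext b (obj D)) x)

theorem H_natural {Y Y' : CommRingCat.{u}ᵒᵖ} (a b : Y ⟶ op (CommRingCat.of S))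
    (e : b ≫ f₀ = a ≫ f₀ (R := R)) (g : Y' ⟶ Y) (a' b' : Y' ⟶ op (CommRingCat.of S))
    (ha : g ≫ a = a') (hb : g ≫ b = b') (e' : b' ≫ f₀ = a' ≫ f₀ (R := R)) (n : obj D) :
    H D a' b' e' (one a' (obj D) n) = κ D b g b' hb (H D a b e (one a (obj D) n)) := by
  have h := D.pullHom_hom g (a ≫ f₀) (a' ≫ f₀) (by rw [← Category.assoc, ha])
    (i₁ := PUnit.unit) (i₂ := PUnit.unit) a b rfl e a' b' ha hb
  have h' : cmp a g a' ha (obj D) ≫ extMap g (H D a b e) ≫ cmpInv b g b' hb (obj D) = H D a' b' e' := h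
  rw [← h']
  show cmpInv b g b' hb (obj D) (extMap g (H D a b e) (cmp a g a' ha (obj D) (one a' (obj D) n))) = _
  rw [cmp_one, extMap_one]
  rfl

theorem κ_one {Y Y' : CommRingCat.{u}ᵒᵖ} (b : Y ⟶ op (CommRingCat.of S)) (g : Y' ⟶ Y)
    (b' : Y' ⟶ op (CommRingCat.of S)) (hb : g ≫ b = b') (n : obj D) :
    κ D b g b' hb (one b (obj D) n) = one b' (obj D) n := cmpInv_one b g b' hb _ n

theorem κ_add {Y Y' : CommRingCat.{u}ᵒᵖ} (b : Y ⟶ op (CommRingCat.of S)) (g : Y' ⟶ Y)
    (b' : Y' ⟶ op (CommRingCat.of S)) (hb : g ≫ b = b') (x y : ext b (obj D)) :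
    κ D b g b' hb (x + y) = κ D b g b' hb x + κ D b g b' hb y := by
  simp only [κ, one_add, map_add]

theorem κ_smul {Y Y' : CommRingCat.{u}ᵒᵖ} (b : Y ⟶ op (CommRingCat.of S)) (g : Y' ⟶ Y)
    (b' : Y' ⟶ op (CommRingCat.of S)) (hb : g ≫ b = b') (c : Y.unop) (x : ext b (obj D)) :
    κ D b g b' hb (c • x) = g.unop c • κ D b g b' hb x := by
  simp only [κ, one_smul', map_smul]

theorem κ_zero {Y Y' : CommRingCat.{u}ᵒᵖ} (b : Y ⟶ op (CommRingCat.of S)) (g : Y' ⟶ Y)
    (b' : Y' ⟶ op (CommRingCat.of S)) (hb : g ≫ b = b') : κ D b g b' hb 0 = 0 := by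
  have h := κ_add D b g b' hb 0 0
  simpa using h

theorem κ_comp {Y Y' Y'' : CommRingCat.{u}ᵒᵖ} (b : Y ⟶ op (CommRingCat.of S)) (g : Y' ⟶ Y)
    (b' : Y' ⟶ op (CommRingCat.of S)) (hb : g ≫ b = b') (g' : Y'' ⟶ Y') (b'' : Y'' ⟶ op (CommRingCat.of S))
    (hb' : g' ≫ b' = b'') (gg : Y'' ⟶ Y) (hgg : g' ≫ g = gg) (hbb : gg ≫ b = b'') (x : ext b (obj D)) :
    κ D b' g' b'' hb' (κ D b g b' hb x) = κ D b gg b'' hbb x := by
  induction x using TensorProduct.induction_on with
  | zero => simp only [κ_zero]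
  | add y z hy hz =>
    refine (congrArg _ (κ_add D b g b' hb y z)).trans ?_
    rw [κ_add, hy, hz]
    exact (κ_add D b gg b'' hbb y z).symm
  | tmul c n =>
    rw [← smul_one_tmul', κ_smul, κ_smul, κ_smul, κ_one, κ_one, κ_one, ← hgg]
    rfl

theorem κ_id {Y : CommRingCat.{u}ᵒᵖ} (b : Y ⟶ op (CommRingCat.of S)) (hb : 𝟙 Y ≫ b = b) (x : ext b (obj D)) :
    κ D b (𝟙 Y) b hb x = x := by
  induction x using TensorProduct.induction_on with
  | zero => exact κ_zero D b (𝟙 Y) b hb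
  | add y z hy hz => exact (κ_add D b (𝟙 Y) b hb y z).trans (by rw [hy, hz])
  | tmul c n =>
    rw [← smul_one_tmul', κ_smul, κ_one]
    rfl

/-- The double overlap. -/
abbrev Y2 : CommRingCat.{u}ᵒᵖ := op (CommRingCat.of (S ⊗[R] S))
/-- The first projection. -/
abbrev pa : Y2 (R := R) (S := S) ⟶ op (CommRingCat.of S) :=
  (CommRingCat.ofHom (Algebra.TensorProduct.includeLeftRingHom : S →+* S ⊗[R] S)).op
/-- The second projection. -/
abbrev pb : Y2 (R := R) (S := S) ⟶ op (CommRingCat.of S) :=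
  (CommRingCat.ofHom (Algebra.TensorProduct.includeRight : S →ₐ[R] S ⊗[R] S).toRingHom).op

theorem e2 : pb (R := R) (S := S) ≫ f₀ = pa (R := R) (S := S) ≫ f₀ (R := R) (S := S) := by
  refine Quiver.Hom.unop_inj (CommRingCat.hom_ext (RingHom.ext fun r => ?_))
  show (1 : S) ⊗ₜ[R] algebraMap R S r = algebraMap R S r ⊗ₜ[R] (1 : S)
  rw [Algebra.algebraMap_eq_smul_one, TensorProduct.smul_tmul]

/-- The triple overlap. -/
abbrev Y3 : CommRingCat.{u}ᵒᵖ := op (CommRingCat.of ((S ⊗[R] S) ⊗[R] S))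
/-- Projection to the first two factors. -/
abbrev g01 : Y3 (R := R) (S := S) ⟶ Y2 (R := R) (S := S) :=
  (CommRingCat.ofHom (Algebra.TensorProduct.includeLeftRingHom : S ⊗[R] S →+* (S ⊗[R] S) ⊗[R] S)).op
/-- The zeroth vertex. -/
abbrev p0 : Y3 (R := R) (S := S) ⟶ op (CommRingCat.of S) := g01 ≫ pa
/-- The first vertex. -/
abbrev p1 : Y3 (R := R) (S := S) ⟶ op (CommRingCat.of S) := g01 ≫ pb
/-- The last vertex. -/
abbrev p2 : Y3 (R := R) (S := S) ⟶ op (CommRingCat.of S) :=
  (CommRingCat.ofHom (Algebra.TensorProduct.includeRight : S →ₐ[R] (S ⊗[R] S) ⊗[R] S).toRingHom).op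

theorem e12 : p2 (R := R) (S := S) ≫ f₀ = p1 (R := R) (S := S) ≫ f₀ (R := R) (S := S) := by
  refine Quiver.Hom.unop_inj (CommRingCat.hom_ext (RingHom.ext fun r => ?_))
  show (1 : S ⊗[R] S) ⊗ₜ[R] algebraMap R S r = ((1 : S) ⊗ₜ[R] algebraMap R S r) ⊗ₜ[R] (1 : S)
  rw [Algebra.algebraMap_eq_smul_one, TensorProduct.tmul_smul, TensorProduct.tmul_smul,
    ← TensorProduct.smul_tmul', Algebra.TensorProduct.one_def]

theorem exists_lift_overlap {Y : CommRingCat.{u}ᵒᵖ} (a b : Y ⟶ op (CommRingCat.of S))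
    (e : b ≫ f₀ = a ≫ f₀ (R := R)) :
    ∃ g : Y ⟶ Y2 (R := R) (S := S), g ≫ (pa (R := R) (S := S)) = a ∧ g ≫ (pb (R := R) (S := S)) = b := by
  letI : Algebra R Y.unop := (a ≫ f₀ (R := R)).unop.hom.toAlgebra
  let la : S →ₐ[R] Y.unop := { a.unop.hom with commutes' := fun _ => rfl }
  let lb : S →ₐ[R] Y.unop := { b.unop.hom with
    commutes' := fun r => RingHom.congr_fun (congrArg (fun (h : Y ⟶ op (CommRingCat.of R)) => h.unop.hom) e) r }
  refine ⟨(CommRingCat.ofHom (Algebra.TensorProduct.lift la lb fun _ _ => Commute.all _ _).toRingHom).op,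
    Quiver.Hom.unop_inj (CommRingCat.hom_ext (RingHom.ext fun s => ?_)),
    Quiver.Hom.unop_inj (CommRingCat.hom_ext (RingHom.ext fun s => ?_))⟩
  · show (Algebra.TensorProduct.lift la lb fun _ _ => Commute.all _ _) (s ⊗ₜ 1) = a.unop.hom s
    simp [la, lb]
  · show (Algebra.TensorProduct.lift la lb fun _ _ => Commute.all _ _) (1 ⊗ₜ s) = b.unop.hom s
    simp [la, lb]

set_option maxHeartbeats 1000000 in
set_option maxRecDepth 4000 in
/-- Effectiveness. -/
theorem exists_descended (hA : PreservesSplitKernels R S) :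
    ∃ (M : ModuleCat.{u} (CommRingCat.of R)) (e : ext f₀ M ⟶ obj D), Function.Bijective e ∧
      (∀ m : M, H D (pa (R := R) (S := S)) (pb (R := R) (S := S)) e2 (one (pa (R := R) (S := S)) (obj D) (e (one f₀ M m))) = one (pb (R := R) (S := S)) (obj D) (e (one f₀ M m))) ∧
      ∀ n : obj D, H D (pa (R := R) (S := S)) (pb (R := R) (S := S)) e2 (one (pa (R := R) (S := S)) (obj D) n) = one (pb (R := R) (S := S)) (obj D) n →
        ∃ m : M, e (one f₀ M m) = n := by
  let N := obj D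
  letI : Module R N := Module.compHom N (algebraMap R S)
  haveI : IsScalarTower R S N := .of_algebraMap_smul fun _ _ => rfl
  let N' := ext (pb (R := R) (S := S)) N
  letI : Module R N' := Module.compHom N' (algebraMap R (S ⊗[R] S))
  let N'' := ext (p2 (R := R) (S := S)) N
  letI : Module R N'' := Module.compHom N'' (algebraMap R ((S ⊗[R] S) ⊗[R] S))
  have hr0 : ∀ r : R, (pb (R := R) (S := S)).unop (algebraMap R S r) = algebraMap R (S ⊗[R] S) r := fun r =>
    (Algebra.TensorProduct.includeRight : S →ₐ[R] S ⊗[R] S).commutes r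
  have hr2 : ∀ r : R, (p2 (R := R) (S := S)).unop (algebraMap R S r) = algebraMap R ((S ⊗[R] S) ⊗[R] S) r := fun r =>
    (Algebra.TensorProduct.includeRight : S →ₐ[R] (S ⊗[R] S) ⊗[R] S).commutes r
  let la : N →ₗ[R] N' :=
    { toFun := fun n => H D (pa (R := R) (S := S)) (pb (R := R) (S := S)) e2 (one (pa (R := R) (S := S)) N n)
      map_add' := fun n n' => by rw [one_add, map_add]
      map_smul' := fun r n => by
        show H D (pa (R := R) (S := S)) (pb (R := R) (S := S)) e2 (one (pa (R := R) (S := S)) N (algebraMap R S r • n)) = algebraMap R (S ⊗[R] S) r • _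
        rw [one_smul', map_smul]
        rfl }
  let lr : N →ₗ[R] N' :=
    { toFun := fun n => one (pb (R := R) (S := S)) N n
      map_add' := fun n n' => one_add _ _ _ _
      map_smul' := fun r n => by
        show one (pb (R := R) (S := S)) N (algebraMap R S r • n) = algebraMap R (S ⊗[R] S) r • _
        rw [one_smul', hr0] }
  let g02 : Y3 (R := R) (S := S) ⟶ Y2 (R := R) (S := S) :=
    (CommRingCat.ofHom (Algebra.TensorProduct.map (Algebra.TensorProduct.includeLeft : S →ₐ[R] S ⊗[R] S)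
      (AlgHom.id R S)).toRingHom).op
  let g12 : Y3 (R := R) (S := S) ⟶ Y2 (R := R) (S := S) :=
    (CommRingCat.ofHom (Algebra.TensorProduct.map (Algebra.TensorProduct.includeRight : S →ₐ[R] S ⊗[R] S)
      (AlgHom.id R S)).toRingHom).op
  have h02b : g02 ≫ (pb (R := R) (S := S)) = (p2 (R := R) (S := S)) := Quiver.Hom.unop_inj (CommRingCat.hom_ext (RingHom.ext fun s => by
    show Algebra.TensorProduct.map _ _ ((1 : S) ⊗ₜ[R] s) = (1 : S ⊗[R] S) ⊗ₜ[R] s
    rw [Algebra.TensorProduct.map_tmul, map_one]; rfl))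
  have h12b : g12 ≫ (pb (R := R) (S := S)) = (p2 (R := R) (S := S)) := Quiver.Hom.unop_inj (CommRingCat.hom_ext (RingHom.ext fun s => by
    show Algebra.TensorProduct.map _ _ ((1 : S) ⊗ₜ[R] s) = (1 : S ⊗[R] S) ⊗ₜ[R] s
    rw [Algebra.TensorProduct.map_tmul, map_one]; rfl))
  have h02a : g02 ≫ (pa (R := R) (S := S)) = (p0 (R := R) (S := S)) := Quiver.Hom.unop_inj (CommRingCat.hom_ext (RingHom.ext fun s => by
    show Algebra.TensorProduct.map _ _ (s ⊗ₜ[R] (1 : S)) = (s ⊗ₜ[R] (1 : S)) ⊗ₜ[R] (1 : S)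
    rw [Algebra.TensorProduct.map_tmul, map_one]; rfl))
  have h12a : g12 ≫ (pa (R := R) (S := S)) = (p1 (R := R) (S := S)) := Quiver.Hom.unop_inj (CommRingCat.hom_ext (RingHom.ext fun s => by
    show Algebra.TensorProduct.map _ _ (s ⊗ₜ[R] (1 : S)) = ((1 : S) ⊗ₜ[R] s) ⊗ₜ[R] (1 : S)
    rw [Algebra.TensorProduct.map_tmul, map_one]; rfl))
  have hgR : ∀ (g : Y3 (R := R) (S := S) ⟶ Y2 (R := R) (S := S)), g = g02 ∨ g = g12 ∨ g = (g01 (R := R) (S := S)) →
      ∀ r : R, g.unop (algebraMap R (S ⊗[R] S) r) = algebraMap R ((S ⊗[R] S) ⊗[R] S) r := by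
    rintro g (rfl | rfl | rfl) r
    · exact (Algebra.TensorProduct.map (Algebra.TensorProduct.includeLeft : S →ₐ[R] S ⊗[R] S)
        (AlgHom.id R S)).commutes r
    · exact (Algebra.TensorProduct.map (Algebra.TensorProduct.includeRight : S →ₐ[R] S ⊗[R] S)
        (AlgHom.id R S)).commutes r
    · rfl
  let c02 : N' →ₗ[R] N'' :=
    { toFun := κ D (pb (R := R) (S := S)) g02 (p2 (R := R) (S := S)) h02b
      map_add' := κ_add D (pb (R := R) (S := S)) g02 (p2 (R := R) (S := S)) h02b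
      map_smul' := fun r x => (κ_smul D (pb (R := R) (S := S)) g02 (p2 (R := R) (S := S)) h02b _ x).trans (congrArg (· • _) (hgR g02 (.inl rfl) r)) }
  let c12 : N' →ₗ[R] N'' :=
    { toFun := κ D (pb (R := R) (S := S)) g12 (p2 (R := R) (S := S)) h12b
      map_add' := κ_add D (pb (R := R) (S := S)) g12 (p2 (R := R) (S := S)) h12b
      map_smul' := fun r x => (κ_smul D (pb (R := R) (S := S)) g12 (p2 (R := R) (S := S)) h12b _ x).trans (congrArg (· • _) (hgR g12 (.inr (.inl rfl)) r)) }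
  let c01 : N' →ₗ[R] N'' :=
    { toFun := fun x => H D (p1 (R := R) (S := S)) (p2 (R := R) (S := S)) e12 (κ D (pb (R := R) (S := S)) (g01 (R := R) (S := S)) (p1 (R := R) (S := S)) rfl x)
      map_add' := fun x y => by rw [κ_add, map_add]
      map_smul' := fun r x => by
        show H D (p1 (R := R) (S := S)) (p2 (R := R) (S := S)) e12 (κ D (pb (R := R) (S := S)) (g01 (R := R) (S := S)) (p1 (R := R) (S := S)) rfl (algebraMap R (S ⊗[R] S) r • x)) = _
        rw [κ_smul, map_smul]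
        rfl }
  let Φ : S ⊗[R] N →ₗ[R] N' := TensorProduct.lift (LinearMap.mk₂ R (fun x n => (pb (R := R) (S := S)).unop x • la n)
    (fun x y n => by simp only [map_add, add_smul])
    (fun r x n => by
      show (pb (R := R) (S := S)).unop (r • x) • la n = algebraMap R (S ⊗[R] S) r • ((pb (R := R) (S := S)).unop x • la n)
      rw [Algebra.smul_def, map_mul, mul_smul, hr0])
    (fun x n n' => by simp only [map_add, smul_add])
    (fun r x n => by
      show (pb (R := R) (S := S)).unop x • la (r • n) = algebraMap R (S ⊗[R] S) r • ((pb (R := R) (S := S)).unop x • la n)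
      rw [map_smul]
      exact smul_comm _ (algebraMap R (S ⊗[R] S) r) _))
  let Ψ : S ⊗[R] N' →ₗ[R] N'' := TensorProduct.lift (LinearMap.mk₂ R (fun x n => (p2 (R := R) (S := S)).unop x • c01 n)
    (fun x y n => by simp only [map_add, add_smul])
    (fun r x n => by
      show (p2 (R := R) (S := S)).unop (r • x) • c01 n = algebraMap R ((S ⊗[R] S) ⊗[R] S) r • ((p2 (R := R) (S := S)).unop x • c01 n)
      rw [Algebra.smul_def, map_mul, mul_smul, hr2])
    (fun x n n' => by simp only [map_add, smul_add])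
    (fun r x n => by
      show (p2 (R := R) (S := S)).unop x • c01 (r • n) = algebraMap R ((S ⊗[R] S) ⊗[R] S) r • ((p2 (R := R) (S := S)).unop x • c01 n)
      rw [map_smul]
      exact smul_comm _ (algebraMap R ((S ⊗[R] S) ⊗[R] S) r) _))
  have hΦ : Function.Bijective Φ := by
    refine bijective_of_lift (A := R) (B := CommRingCat.of S) (C := S) N
      (H D (pa (R := R) (S := S)) (pb (R := R) (S := S)) e2).hom.toAddMonoidHom
      (bijective_H D (pa (R := R) (S := S)) (pb (R := R) (S := S)) e2) Φ fun x n => ?_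
    show (pb (R := R) (S := S)).unop x • H D (pa (R := R) (S := S)) (pb (R := R) (S := S)) e2 (one (pa (R := R) (S := S)) N n) = _
    exact (map_smul (H D (pa (R := R) (S := S)) (pb (R := R) (S := S)) e2).hom _ _).symm
  haveI : IsScalarTower R (S ⊗[R] S) N' := .of_algebraMap_smul fun _ _ => rfl
  have hΨ : Function.Bijective Ψ := by
    refine bijective_of_lift (A := R) (B := CommRingCat.of (S ⊗[R] S)) (C := S) N'
      ((H D (p1 (R := R) (S := S)) (p2 (R := R) (S := S)) e12).hom.toAddMonoidHom.comp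
        (cmpInv (pb (R := R) (S := S)) (g01 (R := R) (S := S)) (p1 (R := R) (S := S)) rfl N).hom.toAddMonoidHom)
      ((bijective_H D (p1 (R := R) (S := S)) (p2 (R := R) (S := S)) e12).comp
        (bijective_cmpInv (pb (R := R) (S := S)) (g01 (R := R) (S := S)) (p1 (R := R) (S := S)) rfl N)) Ψ fun x n => ?_
    show (p2 (R := R) (S := S)).unop x • H D (p1 (R := R) (S := S)) (p2 (R := R) (S := S)) e12
      (cmpInv (pb (R := R) (S := S)) (g01 (R := R) (S := S)) (p1 (R := R) (S := S)) rfl N (one (g01 (R := R) (S := S)) N' n)) = _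
    rw [← map_smul, ← map_smul]
    rfl
  have hr : Function.Injective lr := fun n n' h => by
    let Δ : op (CommRingCat.of S) ⟶ Y2 (R := R) (S := S) :=
      (CommRingCat.ofHom (Algebra.TensorProduct.lmul' R (S := S)).toRingHom).op
    have hΔ : Δ ≫ (pb (R := R) (S := S)) = 𝟙 _ := Quiver.Hom.unop_inj (CommRingCat.hom_ext (RingHom.ext fun s => by
      show Algebra.TensorProduct.lmul' R ((1 : S) ⊗ₜ[R] s) = s
      simp))
    have := congrArg (κ D (pb (R := R) (S := S)) Δ (𝟙 _) hΔ) h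
    rw [show lr n = one (pb (R := R) (S := S)) N n from rfl, show lr n' = one (pb (R := R) (S := S)) N n' from rfl, κ_one, κ_one] at this
    exact one_id_injective N this
  have e01 : p1 (R := R) (S := S) ≫ f₀ = p0 (R := R) (S := S) ≫ f₀ (R := R) (S := S) := by
    rw [Category.assoc, e2, Category.assoc]
  let GA : (S ⊗[R] S) ⊗[R] S →ₐ[R] S ⊗[R] S := Algebra.TensorProduct.lift (AlgHom.id R (S ⊗[R] S))
    (Algebra.TensorProduct.includeRight : S →ₐ[R] S ⊗[R] S) fun _ _ => Commute.all _ _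
  let A02 : S ⊗[R] S →ₐ[R] (S ⊗[R] S) ⊗[R] S := Algebra.TensorProduct.map
    (Algebra.TensorProduct.includeLeft : S →ₐ[R] S ⊗[R] S) (AlgHom.id R S)
  let A12 : S ⊗[R] S →ₐ[R] (S ⊗[R] S) ⊗[R] S := Algebra.TensorProduct.map
    (Algebra.TensorProduct.includeRight : S →ₐ[R] S ⊗[R] S) (AlgHom.id R S)
  let G : Y2 (R := R) (S := S) ⟶ Y3 (R := R) (S := S) := (CommRingCat.ofHom GA.toRingHom).op
  have hGp : G ≫ (p2 (R := R) (S := S)) = (pb (R := R) (S := S)) := Quiver.Hom.unop_inj (CommRingCat.hom_ext (RingHom.ext fun s => by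
    show GA ((1 : S ⊗[R] S) ⊗ₜ[R] s) = (1 : S) ⊗ₜ[R] s
    simp [GA]))
  have hG02 : G ≫ g02 = 𝟙 _ := Quiver.Hom.unop_inj (CommRingCat.hom_ext (RingHom.ext fun z => by
    show GA (A02 z) = z
    induction z using TensorProduct.induction_on with
    | zero => simp
    | add y z hy hz => simp only [map_add, hy, hz]
    | tmul x y => simp [GA, A02, Algebra.TensorProduct.tmul_mul_tmul]))
  have hE : g02 ≫ G ≫ g12 = g12 ≫ G ≫ g12 := Quiver.Hom.unop_inj (CommRingCat.hom_ext (RingHom.ext fun z => by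
    show A02 (GA (A12 z)) = A12 (GA (A12 z))
    induction z using TensorProduct.induction_on with
    | zero => simp
    | add y z hy hz => simp only [map_add, hy, hz]
    | tmul x y => simp [GA, A02, A12, Algebra.TensorProduct.tmul_mul_tmul, Algebra.TensorProduct.one_def]))
  let τ : N'' →ₗ[R] N' :=
    { toFun := κ D (p2 (R := R) (S := S)) G (pb (R := R) (S := S)) hGp
      map_add' := κ_add D (p2 (R := R) (S := S)) G (pb (R := R) (S := S)) hGp
      map_smul' := fun r x => (κ_smul D (p2 (R := R) (S := S)) G (pb (R := R) (S := S)) hGp _ x).trans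
        (congrArg (· • _) (GA.commutes r)) }
  have hμ := bijective_mulSub_of_split (B := S) hA la lr c02 c12 τ (fun x => ?_) (fun x => ?_) Φ Ψ hΦ hΨ hr ?_ ?_ ?_ ?_
  · let K := LinearMap.eqLocus la lr
    let M : ModuleCat.{u} (CommRingCat.of R) := ModuleCat.of R K
    let ι : M ⟶ (ModuleCat.restrictScalars (f₀ (R := R) (S := S)).unop.hom).obj N :=
      ModuleCat.ofHom (Y := (ModuleCat.restrictScalars (f₀ (R := R) (S := S)).unop.hom).obj N)
        { toFun := fun k : K => (k : N)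
          map_add' := fun _ _ => rfl
          map_smul' := fun _ _ => rfl }
    let e : ext (f₀ (R := R) (S := S)) M ⟶ N :=
      ((ModuleCat.extendRestrictScalarsAdj (f₀ (R := R) (S := S)).unop.hom).homEquiv M N).symm ι
    have h1 : ∀ m : M, e (one (f₀ (R := R) (S := S)) M m) = (show K from m).1 := fun m => by
      show e ((1 : S) ⊗ₜ[(CommRingCat.of R), (f₀ (R := R) (S := S)).unop.hom] m) = _
      rw [← ModuleCat.extendRestrictScalarsAdj_homEquiv_apply, Equiv.apply_symm_apply]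
      rfl
    obtain ⟨j, hj, hjt⟩ := exists_ext_equiv (B := CommRingCat.of R) (D := CommRingCat.of S) M
    have h2 : ∀ z, e (j z) = mulSub K z := fun z => by
      induction z using TensorProduct.induction_on with
      | zero => simp
      | add y z hy hz => simp only [map_add, hy, hz]
      | tmul c k =>
        rw [hjt, map_smul]
        exact congrArg (c • ·) (h1 k)
    refine ⟨M, e, ?_, fun m => ?_, fun n hn => ⟨(⟨n, hn⟩ : K), h1 _⟩⟩
    · refine (Function.Bijective.of_comp_iff _ hj).1 ?_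
      rw [show ⇑e.hom ∘ ⇑j = ⇑(mulSub (B := S) K) from funext h2]
      exact hμ
    rw [h1]
    exact m.2
  · show κ D (p2 (R := R) (S := S)) G (pb (R := R) (S := S)) hGp (κ D (pb (R := R) (S := S)) g02 (p2 (R := R) (S := S)) h02b x) = x
    have eI : 𝟙 (Y2 (R := R) (S := S)) ≫ (pb (R := R) (S := S)) = pb (R := R) (S := S) := Category.id_comp _
    exact (κ_comp D (pb (R := R) (S := S)) g02 (p2 (R := R) (S := S)) h02b G (pb (R := R) (S := S)) hGp
      (𝟙 (Y2 (R := R) (S := S))) hG02 eI x).trans (κ_id D (pb (R := R) (S := S)) eI x)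
  · show κ D (pb (R := R) (S := S)) g02 (p2 (R := R) (S := S)) h02b (κ D (p2 (R := R) (S := S)) G (pb (R := R) (S := S)) hGp (κ D (pb (R := R) (S := S)) g12 (p2 (R := R) (S := S)) h12b x)) =
      κ D (pb (R := R) (S := S)) g12 (p2 (R := R) (S := S)) h12b (κ D (p2 (R := R) (S := S)) G (pb (R := R) (S := S)) hGp (κ D (pb (R := R) (S := S)) g12 (p2 (R := R) (S := S)) h12b x))
    have eE : (G ≫ g12) ≫ (pb (R := R) (S := S)) = pb (R := R) (S := S) := by rw [Category.assoc, h12b, hGp]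
    rw [κ_comp D _ g12 _ h12b G _ hGp (G ≫ g12) rfl eE, κ_comp D _ (G ≫ g12) _ eE g02 _ h02b
        (g02 ≫ G ≫ g12) rfl (by rw [Category.assoc, eE, h02b]),
      κ_comp D _ (G ≫ g12) _ eE g12 _ h12b (g02 ≫ G ≫ g12) hE.symm (by rw [Category.assoc, eE, h02b])]
  · intro x n hn
    show (pb (R := R) (S := S)).unop x • la n = lr (x • n)
    rw [hn]
    exact (one_smul' (pb (R := R) (S := S)) N x n).symm
  · intro x n
    show (p2 (R := R) (S := S)).unop x • H D (p1 (R := R) (S := S)) (p2 (R := R) (S := S)) e12 (κ D (pb (R := R) (S := S)) (g01 (R := R) (S := S)) (p1 (R := R) (S := S)) rfl (H D (pa (R := R) (S := S)) (pb (R := R) (S := S)) e2 (one (pa (R := R) (S := S)) N n))) =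
      κ D (pb (R := R) (S := S)) g02 (p2 (R := R) (S := S)) h02b ((pb (R := R) (S := S)).unop x • H D (pa (R := R) (S := S)) (pb (R := R) (S := S)) e2 (one (pa (R := R) (S := S)) N n))
    rw [κ_smul, ← H_natural D (pa (R := R) (S := S)) (pb (R := R) (S := S)) e2 (g01 (R := R) (S := S)) (p0 (R := R) (S := S)) (p1 (R := R) (S := S)) rfl rfl e01 n,
      ← H_natural D (pa (R := R) (S := S)) (pb (R := R) (S := S)) e2 g02 (p0 (R := R) (S := S)) (p2 (R := R) (S := S)) h02a h02b (e12.trans e01) n, ← ModuleCat.comp_apply, H_comp]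
    rw [show g02.unop ((pb (R := R) (S := S)).unop x) = (p2 (R := R) (S := S)).unop x by rw [← h02b]; rfl]
  · intro x n
    show (p2 (R := R) (S := S)).unop x • H D (p1 (R := R) (S := S)) (p2 (R := R) (S := S)) e12 (κ D (pb (R := R) (S := S)) (g01 (R := R) (S := S)) (p1 (R := R) (S := S)) rfl (one (pb (R := R) (S := S)) N n)) =
      κ D (pb (R := R) (S := S)) g12 (p2 (R := R) (S := S)) h12b ((pb (R := R) (S := S)).unop x • H D (pa (R := R) (S := S)) (pb (R := R) (S := S)) e2 (one (pa (R := R) (S := S)) N n))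
    rw [κ_smul, κ_one, ← H_natural D (pa (R := R) (S := S)) (pb (R := R) (S := S)) e2 g12 (p1 (R := R) (S := S)) (p2 (R := R) (S := S)) h12a h12b e12 n]
    rw [show g12.unop ((pb (R := R) (S := S)).unop x) = (p2 (R := R) (S := S)).unop x by rw [← h12b]; rfl]
  · intro n
    show κ D (pb (R := R) (S := S)) g02 (p2 (R := R) (S := S)) h02b (one (pb (R := R) (S := S)) N n) = κ D (pb (R := R) (S := S)) g12 (p2 (R := R) (S := S)) h12b (one (pb (R := R) (S := S)) N n)
    rw [κ_one, κ_one]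

set_option maxHeartbeats 1000000 in
/-- Descent data are effective. -/
theorem exists_iso_of_pure (hA : PreservesSplitKernels R S) :
    ∃ M : ModuleCat.{u} (CommRingCat.of R),
      Nonempty ((Desc.ringModPF.{u}.toDescentData
        (fun _ : PUnit.{u + 1} => (CommRingCat.ofHom (algebraMap R S)).op)).obj M ≅ D) := by
  obtain ⟨M, e, he, hcomm, -⟩ := exists_descended D hA
  haveI : IsIso e := (ConcreteCategory.isIso_iff_bijective e).2 he
  refine ⟨M, ⟨Pseudofunctor.DescentData.isoMk (fun _ => asIso e) ?_⟩⟩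
  rintro Y q ⟨⟩ ⟨⟩ a b ha hb
  have hab : b ≫ f₀ = a ≫ f₀ (R := R) (S := S) := hb.trans ha.symm
  subst ha
  show extMap a e ≫ H D a b hab =
    (cmpInv f₀ a (a ≫ f₀) rfl M ≫ cmp f₀ b (a ≫ f₀) hab M) ≫ extMap b e
  have hiso : Epi (cmp f₀ a (a ≫ f₀) rfl M) :=
    epi_of_epi_fac (g := cmp f₀ a (a ≫ f₀) rfl M) (cmp_cmpInv f₀ a (a ≫ f₀) rfl M)
  rw [← cancel_epi (cmp f₀ a (a ≫ f₀) rfl M)]
  refine ext_hom _ _ fun m => ?_
  simp only [ModuleCat.comp_apply]
  rw [cmp_one, extMap_one, cmpInv_one, cmp_one, extMap_one]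
  obtain ⟨g, hga, hgb⟩ := exists_lift_overlap a b hab
  rw [H_natural D (pa (R := R) (S := S)) (pb (R := R) (S := S)) e2 g a b hga hgb hab, hcomm m, κ_one]

/-- Descent data are effective along faithfully flat maps. -/
theorem exists_iso [Module.FaithfullyFlat R S] :
    ∃ M : ModuleCat.{u} (CommRingCat.of R),
      Nonempty ((Desc.ringModPF.{u}.toDescentData
        (fun _ : PUnit.{u + 1} => (CommRingCat.ofHom (algebraMap R S)).op)).obj M ≅ D) :=
  exists_iso_of_pure D preservesSplitKernels_of_flat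

end Groth.Agent.FpqcQCoh.RingDD
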