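import Groth.Agent.FpqcQCoh.RingDD

/-!
# Descent of modules along universally injective ring maps is an equivalence
-/

set_option autoImplicit false
set_option backward.isDefEq.respectTransparency false
set_option backward.isDefEq.respectTransparency.types false
set_option linter.style.haveILetI false

universe u

open CategoryTheory Opposite TensorProduct
open scoped ChangeOfRings

noncomputable section

namespace Groth.Agent.FpqcQCoh.RingDD

variable (R S : Type u) [CommRing R] [CommRing S] [Algebra R S]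

/-- The functor to descent data. -/
abbrev toDD := Desc.ringModPF.{u}.toDescentData
  (fun _ : PUnit.{u + 1} => (CommRingCat.ofHom (algebraMap R S)).op)

variable {R S}

theorem one_zero {A B : CommRingCat.{u}ᵒᵖ} (f : B ⟶ A) (M : ModuleCat.{u} A.unop) : one f M 0 = 0 :=
  TensorProduct.tmul_zero _ _

theorem one_injective (h : Pi1.UnivInjective R S) (M : ModuleCat.{u} (CommRingCat.of R)) :
    Function.Injective (one (f₀ (R := R) (S := S)) M) := fun m m' hm => by
  obtain ⟨j, hj, hjt⟩ := exists_ext_equiv (B := CommRingCat.of R) (D := CommRingCat.of S) M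
  refine PureDescent.tmul_one_injective h M (hj.1 ?_)
  show j ((1 : (CommRingCat.of S : CommRingCat.{u})) ⊗ₜ m) = j ((1 : (CommRingCat.of S : CommRingCat.{u})) ⊗ₜ m')
  rw [hjt, hjt]
  exact congrArg (_ • ·) hm

theorem surjective_of_extMap (h : Pi1.UnivInjective R S) {M K : ModuleCat.{u} (CommRingCat.of R)} (p : M ⟶ K)
    (hs : Function.Surjective (extMap (f₀ (R := R) (S := S)) p)) : Function.Surjective p := by
  intro k
  let C : ModuleCat.{u} (CommRingCat.of R) := ModuleCat.of _ (K ⧸ LinearMap.range p.hom)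
  let q : K ⟶ C := ModuleCat.ofHom (LinearMap.range p.hom).mkQ
  obtain ⟨z, hz⟩ := hs (one f₀ K k)
  have h0 : extMap (f₀ (R := R) (S := S)) p ≫ extMap f₀ q = extMap f₀ (0 : M ⟶ C) :=
    ext_hom _ _ fun m => by
      rw [ModuleCat.comp_apply, extMap_one, extMap_one, extMap_one]
      exact congrArg (one f₀ C) ((Submodule.Quotient.mk_eq_zero _).2 ⟨m, rfl⟩)
  have h1 : extMap (f₀ (R := R) (S := S)) q (one f₀ K k) = 0 := by
    rw [← hz, ← ModuleCat.comp_apply, h0, extMap, Functor.map_zero]
    rfl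
  rw [extMap_one, ← one_zero f₀ C] at h1
  exact (Submodule.Quotient.mk_eq_zero _).1 (one_injective h C h1)

theorem H_toDD (M : ModuleCat.{u} (CommRingCat.of R)) {Y : CommRingCat.{u}ᵒᵖ} (a b : Y ⟶ op (CommRingCat.of S))
    (e : b ≫ f₀ = a ≫ f₀ (R := R)) :
    H ((toDD R S).obj M) a b e = cmpInv f₀ a (a ≫ f₀) rfl M ≫ cmp f₀ b (a ≫ f₀) e M :=
  rfl

theorem H_toDD_one (M : ModuleCat.{u} (CommRingCat.of R)) {Y : CommRingCat.{u}ᵒᵖ}
    (a b : Y ⟶ op (CommRingCat.of S)) (e : b ≫ f₀ = a ≫ f₀ (R := R)) (m : M) :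
    H ((toDD R S).obj M) a b e (one a (ext f₀ M) (one f₀ M m)) = one b (ext f₀ M) (one f₀ M m) := by
  refine (congrArg (fun φ => φ (one a (ext f₀ M) (one f₀ M m))) (H_toDD M a b e)).trans ?_
  exact (ModuleCat.comp_apply _ _ _).trans
    ((congrArg _ (cmpInv_one f₀ a (a ≫ f₀) rfl M m)).trans (cmp_one f₀ b (a ≫ f₀) e M m))

/-- The component of a morphism of canonical data. -/
abbrev comp₀ {M M' : ModuleCat.{u} (CommRingCat.of R)} (g : (toDD R S).obj M ⟶ (toDD R S).obj M') :
    ext (f₀ (R := R) (S := S)) M ⟶ ext f₀ M' := g.hom PUnit.unit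

theorem comp₀_comm {M M' : ModuleCat.{u} (CommRingCat.of R)} (g : (toDD R S).obj M ⟶ (toDD R S).obj M')
    {Y : CommRingCat.{u}ᵒᵖ} (a b : Y ⟶ op (CommRingCat.of S)) (e : b ≫ f₀ = a ≫ f₀ (R := R)) :
    extMap a (comp₀ g) ≫ H ((toDD R S).obj M') a b e = H ((toDD R S).obj M) a b e ≫ extMap b (comp₀ g) :=
  g.comm (a ≫ f₀) (i₁ := PUnit.unit) (i₂ := PUnit.unit) a b rfl e

theorem comp₀_glued {M M' : ModuleCat.{u} (CommRingCat.of R)} (g : (toDD R S).obj M ⟶ (toDD R S).obj M')
    {Y : CommRingCat.{u}ᵒᵖ} (a b : Y ⟶ op (CommRingCat.of S)) (e : b ≫ f₀ = a ≫ f₀ (R := R)) (m : M) :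
    H ((toDD R S).obj M') a b e (one a (ext f₀ M') (comp₀ g (one f₀ M m))) =
      one b (ext f₀ M') (comp₀ g (one f₀ M m)) := by
  have h1 := congrArg (fun φ => φ (one a (ext f₀ M) (one f₀ M m))) (comp₀_comm g a b e)
  refine (congrArg _ (extMap_one a (comp₀ g) (one f₀ M m)).symm).trans ((ModuleCat.comp_apply _ _ _).symm.trans
    (h1.trans ((ModuleCat.comp_apply _ _ _).trans ((congrArg _ (H_toDD_one M a b e m)).trans ?_))))
  exact extMap_one b (comp₀ g) (one f₀ M m)

/-- A glued element of an effective datum comes from the base. -/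
theorem exists_one_of_glued (h : Pi1.UnivInjective R S)
    (D : Desc.ringModPF.{u}.DescentData (fun _ : PUnit.{u + 1} => (CommRingCat.ofHom (algebraMap R S)).op))
    (M' : ModuleCat.{u} (CommRingCat.of R)) (v : ext (f₀ (R := R) (S := S)) M' ⟶ obj D)
    (hv : Function.Bijective v)
    (hglue : ∀ {Y : CommRingCat.{u}ᵒᵖ} (a b : Y ⟶ op (CommRingCat.of S)) (e : b ≫ f₀ = a ≫ f₀ (R := R)) (m' : M'),
      H D a b e (one a (obj D) (v (one f₀ M' m'))) = one b (obj D) (v (one f₀ M' m')))
    (n : obj D)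
    (hn : ∀ {Y : CommRingCat.{u}ᵒᵖ} (a b : Y ⟶ op (CommRingCat.of S)) (e : b ≫ f₀ = a ≫ f₀ (R := R)),
      H D a b e (one a (obj D) n) = one b (obj D) n) :
    ∃ m' : M', v (one f₀ M' m') = n := by
  obtain ⟨K, e, he, hcomm, hsurj⟩ := exists_descended D (preservesSplitKernels_of_univInjective h)
  have hinj : Function.Injective fun k => e (one f₀ K k) := he.1.comp (one_injective h K)
  choose p hp using fun m' : M' => hsurj (v (one f₀ M' m')) (hglue _ _ e2 m')
  let pl : M' ⟶ K := ModuleCat.ofHom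
    { toFun := p
      map_add' := fun x y => hinj (by
        show e (one f₀ K (p (x + y))) = e (one f₀ K (p x + p y))
        rw [hp, one_add, map_add, one_add, map_add, hp, hp])
      map_smul' := fun r x => hinj (by
        show e (one f₀ K (p (r • x))) = e (one f₀ K (r • p x))
        rw [hp, one_smul', map_smul, one_smul', map_smul, hp]) }
  have hc : extMap f₀ pl ≫ e = v := ext_hom _ _ fun x => by
    rw [ModuleCat.comp_apply, extMap_one]
    exact hp x
  have hpl : Function.Surjective pl := surjective_of_extMap h pl fun z => by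
    obtain ⟨w, hw⟩ := hv.2 (e z)
    refine ⟨w, he.1 ?_⟩
    rw [← ModuleCat.comp_apply, hc, hw]
  obtain ⟨k, hk⟩ := hsurj n (hn _ _ e2)
  obtain ⟨m', rfl⟩ := hpl k
  exact ⟨m', (hp m').symm.trans hk⟩

theorem exists_eq_one (h : Pi1.UnivInjective R S) {M M' : ModuleCat.{u} (CommRingCat.of R)}
    (g : (toDD R S).obj M ⟶ (toDD R S).obj M') (m : M) :
    ∃ m' : M', one f₀ M' m' = comp₀ g (one f₀ M m) :=
  exists_one_of_glued h ((toDD R S).obj M') M' (𝟙 (ext f₀ M')) Function.bijective_id
    (fun a b e m' => H_toDD_one M' a b e m') (comp₀ g (one f₀ M m)) (fun a b e => comp₀_glued g a b e m)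

set_option maxHeartbeats 1000000 in
theorem isEquivalence_of_univInjective (h : Pi1.UnivInjective R S) : (toDD R S).IsEquivalence := by
  have hF : (toDD R S).Faithful := ⟨fun {M M' : ModuleCat.{u} (CommRingCat.of R)} (φ ψ : M ⟶ M') hφ => by
    refine ModuleCat.hom_ext (LinearMap.ext fun m => one_injective h M' ?_)
    have h1 : extMap (f₀ (R := R) (S := S)) φ = extMap f₀ ψ :=
      congrArg (fun g : (toDD R S).obj M ⟶ (toDD R S).obj M' => g.hom PUnit.unit) hφ
    show one (f₀ (R := R) (S := S)) M' (φ m) = one f₀ M' (ψ m)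
    rw [← extMap_one, ← extMap_one, h1]⟩
  have hFu : (toDD R S).Full := ⟨fun {M M'} g => by
    choose ψ hψ using exists_eq_one h g
    refine ⟨ModuleCat.ofHom
      { toFun := ψ
        map_add' := fun x y => one_injective h M' (by simp only [one_add, hψ, map_add])
        map_smul' := fun r x => one_injective h M' (by
          show one f₀ M' (ψ (r • x)) = one f₀ M' (r • ψ x)
          rw [hψ, one_smul', map_smul, one_smul', hψ]) }, ?_⟩
    refine Pseudofunctor.DescentData.hom_ext fun i => ?_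
    obtain rfl : i = PUnit.unit := rfl
    refine ext_hom _ _ fun m => ?_
    exact (extMap_one _ _ m).trans (hψ m)⟩
  have hE : (toDD R S).EssSurj := ⟨fun D => by
    obtain ⟨M, e⟩ := exists_iso_of_pure D (preservesSplitKernels_of_univInjective h)
    exact ⟨M, e⟩⟩
  exact { }

set_option maxHeartbeats 1000000 in
theorem univInjective_of_faithful [(toDD R S).Faithful] : Pi1.UnivInjective R S := by
  intro P _ _
  refine (injective_iff_map_eq_zero _).2 fun z hz => ?_
  obtain ⟨p, rfl⟩ := (TensorProduct.rid R P).symm.surjective z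
  let M : ModuleCat.{u} (CommRingCat.of R) := ModuleCat.of _ P
  have h1 : one (f₀ (R := R) (S := S)) M p = 0 := by
    obtain ⟨j, hj, hjt⟩ := exists_ext_equiv (B := CommRingCat.of R) (D := CommRingCat.of S) M
    have h2 : ((1 : S) ⊗ₜ[R] p) = 0 := by
      have h3 := congrArg (TensorProduct.comm R P S) hz
      simpa using h3
    refine (one_smul (CommRingCat.of S : CommRingCat.{u}) (one f₀ M p)).symm.trans ?_
    rw [← hjt]
    exact (congrArg j h2).trans (map_zero j)
  let φ : ModuleCat.of (CommRingCat.of R) R ⟶ M := ModuleCat.ofHom (LinearMap.toSpanSingleton R P p)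
  have hφ : φ = 0 := by
    refine (toDD R S).map_injective (Pseudofunctor.DescentData.hom_ext fun i => ?_)
    obtain rfl : i = PUnit.unit := rfl
    refine ext_hom _ _ fun r => ?_
    show extMap (f₀ (R := R) (S := S)) φ (one f₀ _ r) = extMap f₀ (0 : _ ⟶ M) (one f₀ _ r)
    rw [extMap_one, extMap_one]
    show one f₀ M (r • p) = one f₀ M 0
    rw [one_smul', h1, smul_zero, one_zero]
  have hp : p = 0 := (one_smul R p).symm.trans (congrArg (fun ψ : _ ⟶ M => ψ (1 : R)) hφ)
  rw [hp, map_zero]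

end Groth.Agent.FpqcQCoh.RingDD
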